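import Cfsg.Agent.H604.Cop.Conway
import Cfsg.Agent.SporadicA.MathieuRecog
import Cfsg.Agent.H417.BlockCount

/-!
# Self-centralizing elements of order 23 in `M23`, `M24`, `Co3`, `Co2`, `Co1` (helper208, S4906)
-/

set_option autoImplicit false

namespace Cfsg.Agent.H208.DS

open Cfsg Subgroup
open Cfsg.Agent.SporadicA.Co0Mono (signCo0)
open Cfsg.Agent.SporadicA.Co1Simple (allOne)
open Cfsg.Agent.CpAutBig
open Cfsg.Agent.M23Order.Base

universe u

/-- centralizer orders and isomorphisms -/
theorem card_cent_congr {X Y : Type*} [Group X] [Group Y] (e : X ≃* Y) (x : X) :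
    Nat.card ↥(centralizer ({x} : Set X)) = Nat.card ↥(centralizer ({e x} : Set Y)) := by
  refine Nat.card_congr (e.toEquiv.subtypeEquiv fun a => ?_)
  rw [mem_centralizer_singleton_iff, mem_centralizer_singleton_iff]
  show a * x = x * a ↔ e a * e x = e x * e a
  rw [← map_mul, ← map_mul, e.injective.eq_iff]

/-- centralizer orders and injective homomorphisms -/
theorem card_cent_le {X Y : Type*} [Group X] [Group Y] [Finite Y] (i : X →* Y) (hi : Function.Injective i) (x : X) :
    Nat.card ↥(centralizer ({x} : Set X)) ≤ Nat.card ↥(centralizer ({i x} : Set Y)) := by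
  refine Nat.card_le_card_of_injective (fun c => ⟨i c.1, ?_⟩) ?_
  · rw [mem_centralizer_singleton_iff, ← map_mul, mem_centralizer_singleton_iff.1 c.2, map_mul]
  · intro a b hab
    exact Subtype.ext (hi (congrArg Subtype.val hab))

/-! ### The subgroups of `Co0` -/

/-- in a subgroup of `Co0` without `-1` the elements of order 23 are self-centralizing -/
theorem card_cent_inc {K : Type*} [Group K] [Finite K] (i : K →* Co0) (hi : Function.Injective i)
    (hZ : ∀ g : K, i g ≠ signCo0 allOne) {z : K} (hz : orderOf z = 23) :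
    Nat.card (centralizer ({z} : Set K)) = 23 := by
  have hz' : orderOf (i z) = 23 := by rw [orderOf_injective i hi, hz]
  have hfin := CoZero.finite_co0
  rw [← hz]
  refine Cfsg.Agent.H604.Cop.Conway.card_eq hz ?_
  have h1 := Cfsg.Agent.H604.Cop.Conway.card_cent_co0 hz'
  classical
  let f : ↥(centralizer ({z} : Set K)) × Bool → ↥(centralizer ({i z} : Set Co0)) := fun a =>
    ⟨i a.1 * (if a.2 then signCo0 allOne else 1), by
      have h2 := mem_centralizer_singleton_iff.1 a.1.2
      rw [mem_centralizer_singleton_iff]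
      have h3 : i a.1 * i z = i z * i a.1 := by rw [← map_mul, h2, map_mul]
      by_cases hb : a.2
      · rw [if_pos hb, mul_assoc, Cfsg.Agent.LThreeBX.NoSeven.n_comm, ← mul_assoc, h3, mul_assoc]
      · rw [if_neg hb, mul_one, h3]⟩
  have hf : Function.Injective f := by
    rintro ⟨a, s⟩ ⟨b, t⟩ h
    have h2 : i a * (if s then signCo0 allOne else 1) = i b * (if t then signCo0 allOne else 1) :=
      congrArg Subtype.val h
    have key : ∀ a b : K, i a * signCo0 allOne = i b → False := by
      intro a b hab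
      apply hZ (a⁻¹ * b)
      rw [map_mul, map_inv, ← hab, inv_mul_cancel_left]
    cases s <;> cases t
    · replace h2 : i a * 1 = i b * 1 := h2
      rw [Prod.mk.injEq]
      exact ⟨Subtype.ext (hi (mul_right_cancel h2)), rfl⟩
    · replace h2 : i a * 1 = i b * signCo0 allOne := h2
      rw [mul_one] at h2
      exact (key _ _ h2.symm).elim
    · replace h2 : i a * signCo0 allOne = i b * 1 := h2
      rw [mul_one] at h2
      exact (key _ _ h2).elim
    · replace h2 : i a * signCo0 allOne = i b * signCo0 allOne := h2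
      rw [Prod.mk.injEq]
      exact ⟨Subtype.ext (hi (mul_right_cancel h2)), rfl⟩
  have h2 := Nat.card_le_card_of_injective f hf
  rw [Nat.card_prod, Nat.card_eq_fintype_card (α := Bool), Fintype.card_bool] at h2
  omega

/-- **`Co2`** -/
theorem cent_co2 {K : Type*} [Group K] [Finite K] (h : Spor.IsoCo2 K) {y : K} (hy : orderOf y = 23) :
    Nat.card (centralizer ({y} : Set K)) = 23 := by
  obtain ⟨e⟩ := h
  have hf := H49.CoStab.finite_co2
  rw [card_cent_congr e]
  let i : Spor.Co2 →* Co0 :=
    { toFun := fun g => ⟨g.1, g.2.1⟩, map_one' := rfl, map_mul' := fun _ _ => rfl }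
  refine card_cent_inc i (fun a b hab => Subtype.ext (congrArg (fun z : Co0 => (z : Equiv.Perm leechLattice)) hab)) ?_
    (by rw [MulEquiv.orderOf_eq, hy])
  intro g hg
  have h1 : i g • Spor.leechU = Spor.leechU := g.2.2
  rw [hg] at h1
  have h2 := congrArg (fun u : leechLattice => (u : GolayPt → ℤ) none) h1
  rw [show ((signCo0 allOne : Co0) • Spor.leechU) = -Spor.leechU from Cfsg.Agent.SporadicA.Co1Simple.allOne_smul _] at h2
  have h3 : -((4 : ℤ)) = 4 := h2
  omega

/-- **`Co3`** -/
theorem cent_co3 {K : Type*} [Group K] [Finite K] (h : Spor.IsoCo3 K) {y : K} (hy : orderOf y = 23) :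
    Nat.card (centralizer ({y} : Set K)) = 23 := by
  obtain ⟨e⟩ := h
  have hf := H49.CoStab.finite_co3
  rw [card_cent_congr e]
  let i : Spor.Co3 →* Co0 :=
    { toFun := fun g => ⟨g.1, g.2.1⟩, map_one' := rfl, map_mul' := fun _ _ => rfl }
  refine card_cent_inc i (fun a b hab => Subtype.ext (congrArg (fun z : Co0 => (z : Equiv.Perm leechLattice)) hab)) ?_
    (by rw [MulEquiv.orderOf_eq, hy])
  intro g hg
  have h1 : i g • Spor.leechV = Spor.leechV := g.2.2
  rw [hg] at h1
  have h2 := congrArg (fun u : leechLattice => (u : GolayPt → ℤ) none) h1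
  rw [show ((signCo0 allOne : Co0) • Spor.leechV) = -Spor.leechV from Cfsg.Agent.SporadicA.Co1Simple.allOne_smul _] at h2
  have h3 : -((-5 : ℤ)) = -5 := h2
  omega

/-- **`Co1`** -/
theorem cent_co1 {K : Type*} [Group K] [Finite K] (h : Spor.IsoCo1 K) {y : K} (hy : orderOf y = 23) :
    Nat.card (centralizer ({y} : Set K)) = 23 := by
  obtain ⟨e⟩ := h
  have hfin := Cfsg.Agent.BpSpor.MBigCo.finite_co1
  rw [card_cent_congr e]
  have hs : orderOf (e y) = 23 := by rw [MulEquiv.orderOf_eq, hy]
  obtain ⟨g, -, hg⟩ := Cfsg.Agent.CpAutBig.Small.conj_of_sylow (p := 23) (by norm_num) (⊤ : Subgroup Spor.Co1) (by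
    rw [Subgroup.card_top, Cfsg.Agent.BpSpor.MBigCo.card_co1]; norm_num) hs Cfsg.Agent.H604.Cop.Conway.orderOf_s23
    (Subgroup.mem_top _) (Subgroup.mem_top _)
  rw [Cfsg.Agent.CpAutBig.CoZero.card_centralizer_of_conj (by norm_num) hs Cfsg.Agent.H604.Cop.Conway.orderOf_s23 hg,
    Cfsg.Agent.H604.Cop.Conway.card_eq Cfsg.Agent.H604.Cop.Conway.orderOf_s23 Cfsg.Agent.H604.Cop.Conway.card_cent_s23,
    Cfsg.Agent.H604.Cop.Conway.orderOf_s23]

/-! ### The Mathieu groups -/

theorem card_cent_m24 {x : M24} (hx : orderOf x = 23) : Nat.card (centralizer ({x} : Set M24)) ≤ 23 := by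
  classical
  set g : Equiv.Perm GolayPt := (x : Equiv.Perm GolayPt) with hg
  have ho : orderOf g = 23 := by rw [hg, Subgroup.orderOf_coe, hx]
  have hcard : Fintype.card GolayPt = 24 := by
    simp [GolayPt]
  have hcyc : g.IsCycle := Equiv.Perm.isCycle_of_prime_order' (by rw [ho]; norm_num) (by rw [hcard, ho]; norm_num)
  have h1 := Equiv.Perm.nat_card_centralizer g
  have hsup : g.support.card = 23 := by rw [← hcyc.orderOf, ho]
  rw [hcyc.cycleType, hsup, hcard] at h1
  have h2 : Nat.card (centralizer ({g} : Set (Equiv.Perm GolayPt))) = 23 := by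
    rw [h1]
    decide
  rw [← h2]
  exact Nat.card_le_card_of_injective
    (fun c : centralizer ({x} : Set M24) =>
      (⟨(c : M24), mem_centralizer_singleton_iff.2 (congrArg Subtype.val (mem_centralizer_singleton_iff.1 c.2))⟩ :
        centralizer ({g} : Set (Equiv.Perm GolayPt))))
    (fun a b hab => by
      simp only [Subtype.mk.injEq] at hab
      exact Subtype.ext (Subtype.ext hab))

/-- **`M24`** -/
theorem cent_m24 {K : Type*} [Group K] [Finite K] (h : Spor.IsoM24 K) {y : K} (hy : orderOf y = 23) :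
    Nat.card (centralizer ({y} : Set K)) = 23 := by
  obtain ⟨e⟩ := h
  have hfin : Finite M24 := Finite.of_equiv _ e.toEquiv
  have hy' : orderOf (e y) = 23 := by rw [MulEquiv.orderOf_eq, hy]
  rw [Cfsg.Agent.H604.Cop.Conway.card_eq hy (by rw [card_cent_congr e]; exact card_cent_m24 hy'), hy]

/-- The inclusion of `M23` in `M24`. -/
def inc : Spor.M23 →* M24 where
  toFun g := ⟨(g : Equiv.Perm GolayPt), g.2.1⟩
  map_one' := rfl
  map_mul' _ _ := rfl

theorem inc_injective : Function.Injective inc := by
  intro a b h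
  exact Subtype.ext (congrArg (fun g : M24 => (g : Equiv.Perm GolayPt)) h)

/-- **`M23`** -/
theorem cent_m23 {K : Type*} [Group K] [Finite K] (h : Spor.IsoM23 K) {y : K} (hy : orderOf y = 23) :
    Nat.card (centralizer ({y} : Set K)) = 23 := by
  obtain ⟨e⟩ := h
  have hfin : Finite M24 := Nat.finite_of_card_ne_zero (by
    rw [Cfsg.Agent.SporadicA.M24Trans.card_M24]; norm_num)
  let f : K →* M24 := inc.comp e.toMonoidHom
  have hf : Function.Injective f := inc_injective.comp e.injective
  have hy' : orderOf (f y) = 23 := by rw [orderOf_injective f hf, hy]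
  rw [Cfsg.Agent.H604.Cop.Conway.card_eq hy ((card_cent_le f hf y).trans (card_cent_m24 hy')), hy]

end Cfsg.Agent.H208.DS
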