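import Cfsg.Agent.H417.BlockCount
import Cfsg.Agent.H704.Defs
import Cfsg.Agent.H208.DS.Cent
import Cfsg.Agent.S0365

/-!
# Facts on the degrees of a simple group with a self-centralizing element of order 23 (helper208, S4906)
-/

set_option autoImplicit false

namespace Cfsg.Agent.H208.DS

open Cfsg Subgroup
open scoped commutatorElement
open Cfsg.Agent.Characters.Core
open Cfsg.Agent.M23Order.Base
open Cfsg.Agent.H704 (IsDeg)

universe u

/-- the degrees of `G` are degrees of `S_n` (the definition of `H704/DS/Base.lean`) -/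
def SDeg (n : ℕ) (G : Type*) [Group G] : Prop :=
  ∀ ψ : G → ℂ, IsIrrCharacter G ψ → ∃ d : ℕ, IsDeg n d ∧ ψ 1 = d

/-- a possible degree -/
structure Good (N n e : ℕ) : Prop where
  one_lt : 1 < e
  dvd : e ∣ N
  sq : e * e < N
  deg : IsDeg n e
  res : e % 23 = 0 ∨ e % 23 = 1 ∨ e % 23 = 22 ∨ e % 23 = 11 ∨ e % 23 = 12

/-- the facts on the degrees -/
structure Facts (N n : ℕ) : Prop where
  prime_to : ∀ p : ℕ, p.Prime → p ∣ N → ∃ e, Good N n e ∧ ¬ p ∣ e
  exc : ∃ e, Good N n e ∧ (e % 23 = 11 ∨ e % 23 = 12)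
  dvd23 : (∀ e, Good N n e → 14 * (e * e) < N) → ∃ e, Good N n e ∧ e % 23 = 0

theorem facts {K : Type u} [Group K] [Finite K] [IsSimpleGroup K] (hna : ¬ IsMulCommutative K) {N n : ℕ}
    (hN : Nat.card K = N) (h23 : 23 ∣ N) (h232 : ¬ 23 ^ 2 ∣ N) (he : N / 23 % 23 = 11) (hbig : 1000 < N)
    (hC : ∀ y : K, orderOf y = 23 → Nat.card (centralizer ({y} : Set K)) = 23) (hd : SDeg n K) : Facts N n := by
  classical
  have : Fact (Nat.Prime 23) := ⟨by norm_num⟩
  obtain ⟨P, hP, ⟨D⟩⟩ := H417.BlockCount.exists_SC (G := K) 23 (by norm_num) (by rw [hN]; exact h23)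
    (by rw [hN]; exact h232) hC (e := 11) (t := 2) (by rw [hN]; exact he) (by norm_num)
  have hcomm : commutator K = ⊤ := by
    rcases (inferInstance : IsSimpleGroup K).eq_bot_or_eq_top_of_normal (commutator K) inferInstance with h | h
    · exfalso
      apply hna
      refine ⟨⟨fun a b => ?_⟩⟩
      have h1 : ⁅a, b⁆ ∈ commutator K := Subgroup.commutator_mem_commutator (Subgroup.mem_top _) (Subgroup.mem_top _)
      rw [h, Subgroup.mem_bot] at h1
      exact commutatorElement_eq_one_iff_mul_comm.1 h1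
    · exact h
  have := finite_irr (G := K)
  have := Fintype.ofFinite (IrrCharacter K)
  have hsum : ∑ η : IrrCharacter K, dg η ^ 2 = N := by rw [sum_dg_sq, hN]
  have hone : dg D.one = 1 := dg_of_eq (by rw [D.coe_one]; simp)
  have hcases := H417.BlockCount.mod_cases D (by norm_num) (by norm_num) (by norm_num)
  have hgood : ∀ χ : IrrCharacter K, χ ≠ D.one → Good N n (dg χ) := by
    intro χ hχ
    refine ⟨?_, ?_, ?_, ?_, ?_⟩
    · have h1 := dg_ne_zero χ
      have h2 : dg χ ≠ 1 := by
        intro h3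
        apply hχ
        apply Subtype.ext
        rw [coe_eq_one_of_dg hcomm h3, D.coe_one]
      omega
    · rw [← hN]; exact dg_dvd χ
    · have h1 := sum_dg_sq_le ({D.one, χ} : Finset (IrrCharacter K))
      rw [Finset.sum_pair hχ.symm, hone, hN] at h1
      rw [← pow_two]
      omega
    · obtain ⟨d, h1, h2⟩ := hd χ χ.2
      rw [dg_eq] at h2
      have h3 : dg χ = d := by exact_mod_cast h2
      rw [h3]; exact h1
    · rcases hcases χ with h | h | h | h | h <;> omega
  refine ⟨?_, ?_, ?_⟩
  · intro p hp hpN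
    by_contra hcon
    push Not at hcon
    have h1 : p ∣ ∑ η ∈ Finset.univ.erase D.one, dg η ^ 2 :=
      Finset.dvd_sum fun η hη => dvd_pow (hcon _ (hgood η (Finset.ne_of_mem_erase hη))) two_ne_zero
    rw [← Finset.add_sum_erase _ _ (Finset.mem_univ D.one), hone, one_pow] at hsum
    rw [← hsum] at hpN
    have h2 := (Nat.dvd_add_left h1).1 hpN
    exact hp.one_lt.ne' (Nat.dvd_one.1 h2)
  · have h1 : D.X.Nonempty := by rw [← Finset.card_pos, D.card_X]; norm_num
    obtain ⟨χ, hχ⟩ := h1
    have h2 : χ ≠ D.one := fun h => Finset.disjoint_left.1 D.disj D.one_mem (h ▸ hχ)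
    refine ⟨dg χ, hgood χ h2, ?_⟩
    rcases H417.BlockCount.mod_X' D (by norm_num) (by norm_num) hχ with h | h <;> omega
  · intro hB
    by_contra hcon
    push Not at hcon
    have h1 : ∀ χ : IrrCharacter K, χ ∈ D.NE ∪ D.X := by
      intro χ
      by_contra h2
      rw [Finset.mem_union, not_or] at h2
      have h3 : χ ≠ D.one := fun h => h2.1 (h ▸ D.one_mem)
      exact hcon _ (hgood χ h3) (H417.BlockCount.mod_out' D h2.1 h2.2)
    have h2 : (Finset.univ : Finset (IrrCharacter K)) = D.NE ∪ D.X := by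
      ext χ
      exact ⟨fun _ => h1 χ, fun _ => Finset.mem_univ _⟩
    have h3 : (Finset.univ.erase D.one : Finset (IrrCharacter K)).card = 12 := by
      rw [Finset.card_erase_of_mem (Finset.mem_univ _), h2, Finset.card_union_of_disjoint D.disj, D.card_NE, D.card_X]
    rw [← Finset.add_sum_erase _ _ (Finset.mem_univ D.one), hone, one_pow] at hsum
    have h4 : ∑ η ∈ Finset.univ.erase D.one, 14 * dg η ^ 2 ≤ ∑ _η ∈ Finset.univ.erase D.one, N := by
      apply Finset.sum_le_sum
      intro η hη
      have := hB _ (hgood η (Finset.ne_of_mem_erase hη))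
      rw [← pow_two] at this
      omega
    rw [← Finset.mul_sum, Finset.sum_const, h3, smul_eq_mul] at h4
    omega

/-! ### The five groups -/

theorem not_comm {K : Type*} [Group K] [Finite K] [IsSimpleGroup K] (h : ¬ (Nat.card K).Prime) : ¬ IsMulCommutative K :=
  Cfsg.Agent.H604.Cop.Conway.not_comm_of_card h

theorem simple_m23 : IsSimpleGroup Spor.M23 := by
  let _ := Cfsg.Agent.SporadicA.MathieuRecog.act23
  have _ := Cfsg.Agent.SporadicA.MathieuRecog.act23_faithful
  refine Cfsg.Agent.SporadicA.DegreePrime.isSimpleGroup_of_card_degree23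
    (Ω := Cfsg.Agent.SporadicA.MathieuRecog.Pt23) ?_ Cfsg.Agent.SporadicA.MathieuRecog.card_M23
  rw [Nat.card_eq_fintype_card]
  decide +kernel

theorem facts_m23 {K : Type u} [Group K] [Finite K] (h : Spor.IsoM23 K) {n : ℕ} (hd : SDeg n K) : Facts 10200960 n := by
  obtain ⟨e⟩ := id h
  have h0 := simple_m23
  have hs : IsSimpleGroup K := (MulEquiv.isSimpleGroup_congr e).2 h0
  have hN : Nat.card K = 10200960 := by
    rw [Nat.card_congr e.toEquiv]; exact Cfsg.Agent.SporadicA.MathieuRecog.card_M23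
  exact facts (not_comm (by rw [hN]; norm_num)) hN (by norm_num) (by norm_num) (by norm_num) (by norm_num)
    (fun y hy => cent_m23 h hy) hd

theorem facts_m24 {K : Type u} [Group K] [Finite K] (h : Spor.IsoM24 K) {n : ℕ} (hd : SDeg n K) : Facts 244823040 n := by
  obtain ⟨e⟩ := id h
  have h0 : IsSimpleGroup M24 := Cfsg.Agent.S0365.result
  have hs : IsSimpleGroup K := (MulEquiv.isSimpleGroup_congr e).2 h0
  have hN : Nat.card K = 244823040 := by
    rw [Nat.card_congr e.toEquiv]; exact Cfsg.Agent.SporadicA.M24Trans.card_M24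
  exact facts (not_comm (by rw [hN]; norm_num)) hN (by norm_num) (by norm_num) (by norm_num) (by norm_num)
    (fun y hy => cent_m24 h hy) hd

theorem facts_co3 {K : Type u} [Group K] [Finite K] (h : Spor.IsoCo3 K) {n : ℕ} (hd : SDeg n K) :
    Facts 495766656000 n := by
  obtain ⟨e⟩ := id h
  have h0 := H49.CoStab.simple_co3
  have hs : IsSimpleGroup K := (MulEquiv.isSimpleGroup_congr e).2 h0
  have hN : Nat.card K = 495766656000 := by
    rw [Nat.card_congr e.toEquiv]; exact H49.CoStab.card_co3
  exact facts (not_comm (by rw [hN]; norm_num)) hN (by norm_num) (by norm_num) (by norm_num) (by norm_num)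
    (fun y hy => cent_co3 h hy) hd

theorem facts_co2 {K : Type u} [Group K] [Finite K] (h : Spor.IsoCo2 K) {n : ℕ} (hd : SDeg n K) :
    Facts 42305421312000 n := by
  obtain ⟨e⟩ := id h
  have h0 := H49.CoStab.simple_co2
  have hs : IsSimpleGroup K := (MulEquiv.isSimpleGroup_congr e).2 h0
  have hN : Nat.card K = 42305421312000 := by
    rw [Nat.card_congr e.toEquiv]; exact H49.CoStab.card_co2
  exact facts (not_comm (by rw [hN]; norm_num)) hN (by norm_num) (by norm_num) (by norm_num) (by norm_num)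
    (fun y hy => cent_co2 h hy) hd

theorem facts_co1 {K : Type u} [Group K] [Finite K] (h : Spor.IsoCo1 K) {n : ℕ} (hd : SDeg n K) :
    Facts 4157776806543360000 n := by
  obtain ⟨e⟩ := id h
  have h0 : IsSimpleGroup Spor.Co1 := Cfsg.Agent.S0399.result.1
  have hs : IsSimpleGroup K := (MulEquiv.isSimpleGroup_congr e).2 h0
  have hN : Nat.card K = 4157776806543360000 := by
    rw [Nat.card_congr e.toEquiv]; exact Cfsg.Agent.BpSpor.MBigCo.card_co1
  exact facts (not_comm (by rw [hN]; norm_num)) hN (by norm_num) (by norm_num) (by norm_num) (by norm_num)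
    (fun y hy => cent_co1 h hy) hd

end Cfsg.Agent.H208.DS
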