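import Cfsg.Agent.H208.DS.Level
import Cfsg.Agent.H208.DS.Core

/-!
# The kernel checks for the divisors of `|Co1|` (helper208, S4906)
-/

set_option autoImplicit false
set_option linter.unusedSectionVars false

namespace Cfsg.Agent.H208.DS

open Cfsg.Agent.H704

/-- the order of `Co1` -/
abbrev NN : ℕ := 4157776806543360000

/-- `d` is not an exceptional degree -/
def chkC (N d : ℕ) : Bool :=
  cond (Nat.beq (Nat.mod N d) 0)
    (cond (Nat.ble N (Nat.mul d d)) true
      (cond (Nat.beq (Nat.mod d 23) 11) false (cond (Nat.beq (Nat.mod d 23) 12) false true)))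
    true

/-- `d` is no degree, or divisible by `p` -/
def chkA (N p d : ℕ) : Bool :=
  cond (Nat.beq (Nat.mod N d) 0)
    (cond (Nat.ble N (Nat.mul d d)) true
      (cond (Nat.beq d 1) true (cond (Nat.beq (Nat.mod d p) 0) true
        (cond (Nat.beq (Nat.mod d 23) 0) false (cond (Nat.beq (Nat.mod d 23) 1) false
          (cond (Nat.beq (Nat.mod d 23) 22) false (cond (Nat.beq (Nat.mod d 23) 11) false
            (cond (Nat.beq (Nat.mod d 23) 12) false true)))))))) 
    true

/-- the test with the reason `r` -/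
def chkR (N r d : ℕ) : Bool := cond (Nat.beq r 0) (chkC N d) (chkA N r d)

/-! ### The facts used -/

/-- the facts for `NN` -/
structure FactsW (N n : ℕ) : Prop where
  prime_to : ∀ p : ℕ, p = 2 ∨ p = 3 ∨ p = 5 ∨ p = 7 → ∃ e, Good N n e ∧ ¬ p ∣ e
  exc : ∃ e, Good N n e ∧ (e % 23 = 11 ∨ e % 23 = 12)

theorem Good.mono {N N' n e : ℕ} (h : Good N' n e) (hd : N' ∣ N) (h0 : 0 < N) : Good N n e :=
  ⟨h.one_lt, h.dvd.trans hd, h.sq.trans_le (Nat.le_of_dvd h0 hd), h.deg, h.res⟩

theorem Facts.toW {N N' n : ℕ} (F : Facts N' n) (hd : N' ∣ N) (h0 : 0 < N) (h : 210 ∣ N') : FactsW N n := by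
  refine ⟨fun p hp => ?_, ?_⟩
  · have h1 : p.Prime ∧ p ∣ N' := by
      rcases hp with rfl | rfl | rfl | rfl
      · exact ⟨by norm_num, (show 2 ∣ 210 by norm_num).trans h⟩
      · exact ⟨by norm_num, (show 3 ∣ 210 by norm_num).trans h⟩
      · exact ⟨by norm_num, (show 5 ∣ 210 by norm_num).trans h⟩
      · exact ⟨by norm_num, (show 7 ∣ 210 by norm_num).trans h⟩
    obtain ⟨e, h2, h3⟩ := F.prime_to p h1.1 h1.2
    exact ⟨e, h2.mono hd h0, h3⟩
  · obtain ⟨e, h2, h3⟩ := F.exc
    exact ⟨e, h2.mono hd h0, h3⟩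

theorem chkC_false {N n e : ℕ} (h : Good N n e) (h2 : e % 23 = 11 ∨ e % 23 = 12) : chkC N e = false := by
  unfold chkC
  have h3 : Nat.beq (Nat.mod N e) 0 = true := by
    rw [show Nat.mod N e = 0 from Nat.mod_eq_zero_of_dvd h.dvd]; rfl
  have h4 : Nat.ble N (Nat.mul e e) = false := by
    rw [Bool.eq_false_iff]
    intro h5
    have h6 : N ≤ e * e := Nat.le_of_ble_eq_true h5
    exact absurd h.sq (not_lt.2 h6)
  rw [h3, h4]
  simp only [cond_true, cond_false]
  rcases h2 with h2 | h2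
  · rw [show Nat.mod e 23 = 11 from h2]; rfl
  · rw [show Nat.mod e 23 = 12 from h2]; rfl

theorem chkA_false {N n p e : ℕ} (h : Good N n e) (h2 : ¬ p ∣ e) : chkA N p e = false := by
  unfold chkA
  have h3 : Nat.beq (Nat.mod N e) 0 = true := by
    rw [show Nat.mod N e = 0 from Nat.mod_eq_zero_of_dvd h.dvd]; rfl
  have h4 : Nat.ble N (Nat.mul e e) = false := by
    rw [Bool.eq_false_iff]
    intro h5
    have h6 : N ≤ e * e := Nat.le_of_ble_eq_true h5
    exact absurd h.sq (not_lt.2 h6)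
  have h5 : Nat.beq e 1 = false := by
    rw [Bool.eq_false_iff]
    intro h5
    have := Nat.eq_of_beq_eq_true h5
    have := h.one_lt
    omega
  have h6 : Nat.beq (Nat.mod e p) 0 = false := by
    rw [Bool.eq_false_iff]
    intro h5
    exact h2 (Nat.dvd_of_mod_eq_zero (Nat.eq_of_beq_eq_true h5))
  rw [h3, h4, h5, h6]
  simp only [cond_true, cond_false]
  rcases h.res with h2 | h2 | h2 | h2 | h2
  · rw [show Nat.mod e 23 = 0 from h2]; rfl
  · rw [show Nat.mod e 23 = 1 from h2]; rfl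
  · rw [show Nat.mod e 23 = 22 from h2]; rfl
  · rw [show Nat.mod e 23 = 11 from h2]; rfl
  · rw [show Nat.mod e 23 = 12 from h2]; rfl

theorem chkR_of_large {N r d : ℕ} (h : N ≤ d * d) : chkR N r d = true := by
  have h1 : Nat.ble N (Nat.mul d d) = true := Nat.ble_eq_true_of_le h
  unfold chkR chkC chkA
  rw [h1]
  simp only [cond_true]
  cases Nat.beq r 0 <;> cases Nat.beq (Nat.mod N d) 0 <;> rfl

theorem chkR_of_not_dvd {N r d : ℕ} (h : ¬ d ∣ N) : chkR N r d = true := by
  have h1 : Nat.beq (Nat.mod N d) 0 = false := by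
    rw [Bool.eq_false_iff]
    intro h5
    exact h (Nat.dvd_of_mod_eq_zero (Nat.eq_of_beq_eq_true h5))
  unfold chkR chkC chkA
  rw [h1]
  cases Nat.beq r 0 <;> rfl

/-- **the kill** -/
theorem FactsW.kill {N n : ℕ} (F : FactsW N n) (r : ℕ) (hr : r = 0 ∨ r = 2 ∨ r = 3 ∨ r = 5 ∨ r = 7)
    (h : ∀ d, IsDeg n d → chkR N r d = true) : False := by
  rcases Nat.eq_zero_or_pos r with h0 | h0
  · subst h0
    obtain ⟨e, h1, h2⟩ := F.exc
    have h3 := h e h1.deg
    change chkC N e = true at h3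
    rw [chkC_false h1 h2] at h3
    exact Bool.false_ne_true h3
  · obtain ⟨e, h1, h2⟩ := F.prime_to r (hr.resolve_left h0.ne')
    have h3 := h e h1.deg
    have h4 : chkR N r e = chkA N r e := by
      unfold chkR
      have : Nat.beq r 0 = false := by
        rw [Bool.eq_false_iff]
        intro h5
        have := Nat.eq_of_beq_eq_true h5
        omega
      rw [this]; rfl
    rw [h4, chkA_false h1 h2] at h3
    exact Bool.false_ne_true h3

/-! ### `16 ≤ n ≤ 76` -/

/-- full enumeration -/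
theorem FactsW.full {n : ℕ} (F : FactsW NN n) (r : ℕ) (hr : r = 0 ∨ r = 2 ∨ r = 3 ∨ r = 5 ∨ r = 7)
    (h : go (fun _ H => chkR NN r (Nat.div n.factorial H)) (n + 1) n 1 [] 1 = true) : False :=
  F.kill r hr fun _ hd => check_of_isDeg h hd

/-- enumeration with a prime `s` not dividing `NN` -/
theorem FactsW.prime {n : ℕ} (F : FactsW NN n) (r s E : ℕ) (hr : r = 0 ∨ r = 2 ∨ r = 3 ∨ r = 5 ∨ r = 7)
    (hs : s.Prime) (hsN : ¬ s ∣ NN) (hE : n = s + E)
    (h : goP E (fun H => chkR NN r (Nat.div n.factorial H)) (n + 1) n 1 [] 1 = true) : False := by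
  refine F.kill r hr fun d hd => ?_
  by_cases h1 : s ∣ d
  · exact chkR_of_not_dvd fun h2 => hsN (h1.trans h2)
  · exact check_of_isDegP hs (by omega) hE h hd h1

end Cfsg.Agent.H208.DS
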