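import Cfsg.Agent.H208.DS.Kill

/-!
# The kernel checks for `16 ≤ n ≤ 28` (helper208, S4906)
-/

set_option autoImplicit false

namespace Cfsg.Agent.H208.DS

open Cfsg.Agent.H704

theorem k16 (F : FactsW NN 16) : False := F.full 2 (by norm_num) (by decide +kernel)

theorem k17 (F : FactsW NN 17) : False :=
  F.prime 0 17 0 (by norm_num) (by norm_num) (by norm_num) (by norm_num) (by decide +kernel)

theorem k18 (F : FactsW NN 18) : False :=
  F.prime 2 17 1 (by norm_num) (by norm_num) (by norm_num) (by norm_num) (by decide +kernel)

theorem k19 (F : FactsW NN 19) : False :=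
  F.prime 0 19 0 (by norm_num) (by norm_num) (by norm_num) (by norm_num) (by decide +kernel)

theorem k20 (F : FactsW NN 20) : False :=
  F.prime 2 19 1 (by norm_num) (by norm_num) (by norm_num) (by norm_num) (by decide +kernel)

theorem k21 (F : FactsW NN 21) : False :=
  F.prime 0 19 2 (by norm_num) (by norm_num) (by norm_num) (by norm_num) (by decide +kernel)

theorem k22 (F : FactsW NN 22) : False :=
  F.prime 0 19 3 (by norm_num) (by norm_num) (by norm_num) (by norm_num) (by decide +kernel)

theorem k23 (F : FactsW NN 23) : False :=
  F.prime 0 19 4 (by norm_num) (by norm_num) (by norm_num) (by norm_num) (by decide +kernel)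

theorem k24 (F : FactsW NN 24) : False :=
  F.prime 0 19 5 (by norm_num) (by norm_num) (by norm_num) (by norm_num) (by decide +kernel)

theorem k25 (F : FactsW NN 25) : False :=
  F.prime 0 19 6 (by norm_num) (by norm_num) (by norm_num) (by norm_num) (by decide +kernel)

theorem k26 (F : FactsW NN 26) : False :=
  F.prime 0 19 7 (by norm_num) (by norm_num) (by norm_num) (by norm_num) (by decide +kernel)

theorem k27 (F : FactsW NN 27) : False :=
  F.prime 0 19 8 (by norm_num) (by norm_num) (by norm_num) (by norm_num) (by decide +kernel)

theorem k28 (F : FactsW NN 28) : False :=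
  F.prime 0 19 9 (by norm_num) (by norm_num) (by norm_num) (by norm_num) (by decide +kernel)

theorem killA {n : ℕ} (h1 : 16 ≤ n) (h2 : n ≤ 28) (F : FactsW NN n) : False := by
  interval_cases n
  · exact k16 F
  · exact k17 F
  · exact k18 F
  · exact k19 F
  · exact k20 F
  · exact k21 F
  · exact k22 F
  · exact k23 F
  · exact k24 F
  · exact k25 F
  · exact k26 F
  · exact k27 F
  · exact k28 F


end Cfsg.Agent.H208.DS
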