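import Cfsg.Agent.H208.DS.Kill

/-!
# The kernel checks for `29 ≤ n ≤ 76` (helper208, S4906)
-/

set_option autoImplicit false

namespace Cfsg.Agent.H208.DS

open Cfsg.Agent.H704

theorem k29 (F : FactsW NN 29) : False :=
  F.prime 0 29 0 (by norm_num) (by norm_num) (by norm_num) (by norm_num) (by decide +kernel)

theorem k30 (F : FactsW NN 30) : False :=
  F.prime 5 29 1 (by norm_num) (by norm_num) (by norm_num) (by norm_num) (by decide +kernel)

theorem k31 (F : FactsW NN 31) : False :=
  F.prime 0 31 0 (by norm_num) (by norm_num) (by norm_num) (by norm_num) (by decide +kernel)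

theorem k32 (F : FactsW NN 32) : False :=
  F.prime 0 31 1 (by norm_num) (by norm_num) (by norm_num) (by norm_num) (by decide +kernel)

theorem k33 (F : FactsW NN 33) : False :=
  F.prime 3 31 2 (by norm_num) (by norm_num) (by norm_num) (by norm_num) (by decide +kernel)

theorem k34 (F : FactsW NN 34) : False :=
  F.prime 0 31 3 (by norm_num) (by norm_num) (by norm_num) (by norm_num) (by decide +kernel)

theorem k35 (F : FactsW NN 35) : False :=
  F.prime 0 31 4 (by norm_num) (by norm_num) (by norm_num) (by norm_num) (by decide +kernel)

theorem k36 (F : FactsW NN 36) : False :=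
  F.prime 5 31 5 (by norm_num) (by norm_num) (by norm_num) (by norm_num) (by decide +kernel)

theorem k37 (F : FactsW NN 37) : False :=
  F.prime 0 37 0 (by norm_num) (by norm_num) (by norm_num) (by norm_num) (by decide +kernel)

theorem k38 (F : FactsW NN 38) : False :=
  F.prime 0 37 1 (by norm_num) (by norm_num) (by norm_num) (by norm_num) (by decide +kernel)

theorem k39 (F : FactsW NN 39) : False :=
  F.prime 2 37 2 (by norm_num) (by norm_num) (by norm_num) (by norm_num) (by decide +kernel)

theorem k40 (F : FactsW NN 40) : False :=
  F.prime 0 37 3 (by norm_num) (by norm_num) (by norm_num) (by norm_num) (by decide +kernel)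

theorem k41 (F : FactsW NN 41) : False :=
  F.prime 0 41 0 (by norm_num) (by norm_num) (by norm_num) (by norm_num) (by decide +kernel)

theorem k42 (F : FactsW NN 42) : False :=
  F.prime 0 41 1 (by norm_num) (by norm_num) (by norm_num) (by norm_num) (by decide +kernel)

theorem k43 (F : FactsW NN 43) : False :=
  F.prime 0 43 0 (by norm_num) (by norm_num) (by norm_num) (by norm_num) (by decide +kernel)

theorem k44 (F : FactsW NN 44) : False :=
  F.prime 0 43 1 (by norm_num) (by norm_num) (by norm_num) (by norm_num) (by decide +kernel)

theorem k45 (F : FactsW NN 45) : False :=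
  F.prime 0 43 2 (by norm_num) (by norm_num) (by norm_num) (by norm_num) (by decide +kernel)

theorem k46 (F : FactsW NN 46) : False :=
  F.prime 0 43 3 (by norm_num) (by norm_num) (by norm_num) (by norm_num) (by decide +kernel)

theorem k47 (F : FactsW NN 47) : False :=
  F.prime 0 47 0 (by norm_num) (by norm_num) (by norm_num) (by norm_num) (by decide +kernel)

theorem k48 (F : FactsW NN 48) : False :=
  F.prime 0 47 1 (by norm_num) (by norm_num) (by norm_num) (by norm_num) (by decide +kernel)

theorem k49 (F : FactsW NN 49) : False :=
  F.prime 0 47 2 (by norm_num) (by norm_num) (by norm_num) (by norm_num) (by decide +kernel)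

theorem k50 (F : FactsW NN 50) : False :=
  F.prime 0 47 3 (by norm_num) (by norm_num) (by norm_num) (by norm_num) (by decide +kernel)

theorem k51 (F : FactsW NN 51) : False :=
  F.prime 0 47 4 (by norm_num) (by norm_num) (by norm_num) (by norm_num) (by decide +kernel)

theorem k52 (F : FactsW NN 52) : False :=
  F.prime 0 47 5 (by norm_num) (by norm_num) (by norm_num) (by norm_num) (by decide +kernel)

theorem k53 (F : FactsW NN 53) : False :=
  F.prime 0 53 0 (by norm_num) (by norm_num) (by norm_num) (by norm_num) (by decide +kernel)

theorem k54 (F : FactsW NN 54) : False :=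
  F.prime 0 53 1 (by norm_num) (by norm_num) (by norm_num) (by norm_num) (by decide +kernel)

theorem k55 (F : FactsW NN 55) : False :=
  F.prime 0 53 2 (by norm_num) (by norm_num) (by norm_num) (by norm_num) (by decide +kernel)

theorem k56 (F : FactsW NN 56) : False :=
  F.prime 2 53 3 (by norm_num) (by norm_num) (by norm_num) (by norm_num) (by decide +kernel)

theorem k57 (F : FactsW NN 57) : False :=
  F.prime 0 53 4 (by norm_num) (by norm_num) (by norm_num) (by norm_num) (by decide +kernel)

theorem k58 (F : FactsW NN 58) : False :=
  F.prime 0 53 5 (by norm_num) (by norm_num) (by norm_num) (by norm_num) (by decide +kernel)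

theorem k59 (F : FactsW NN 59) : False :=
  F.prime 0 59 0 (by norm_num) (by norm_num) (by norm_num) (by norm_num) (by decide +kernel)

theorem k60 (F : FactsW NN 60) : False :=
  F.prime 0 59 1 (by norm_num) (by norm_num) (by norm_num) (by norm_num) (by decide +kernel)

theorem k61 (F : FactsW NN 61) : False :=
  F.prime 0 61 0 (by norm_num) (by norm_num) (by norm_num) (by norm_num) (by decide +kernel)

theorem k62 (F : FactsW NN 62) : False :=
  F.prime 0 61 1 (by norm_num) (by norm_num) (by norm_num) (by norm_num) (by decide +kernel)

theorem k63 (F : FactsW NN 63) : False :=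
  F.prime 0 61 2 (by norm_num) (by norm_num) (by norm_num) (by norm_num) (by decide +kernel)

theorem k64 (F : FactsW NN 64) : False :=
  F.prime 0 61 3 (by norm_num) (by norm_num) (by norm_num) (by norm_num) (by decide +kernel)

theorem k65 (F : FactsW NN 65) : False :=
  F.prime 0 61 4 (by norm_num) (by norm_num) (by norm_num) (by norm_num) (by decide +kernel)

theorem k66 (F : FactsW NN 66) : False :=
  F.prime 3 61 5 (by norm_num) (by norm_num) (by norm_num) (by norm_num) (by decide +kernel)

theorem k67 (F : FactsW NN 67) : False :=
  F.prime 0 67 0 (by norm_num) (by norm_num) (by norm_num) (by norm_num) (by decide +kernel)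

theorem k68 (F : FactsW NN 68) : False :=
  F.prime 0 67 1 (by norm_num) (by norm_num) (by norm_num) (by norm_num) (by decide +kernel)

theorem k69 (F : FactsW NN 69) : False :=
  F.prime 0 67 2 (by norm_num) (by norm_num) (by norm_num) (by norm_num) (by decide +kernel)

theorem k70 (F : FactsW NN 70) : False :=
  F.prime 0 67 3 (by norm_num) (by norm_num) (by norm_num) (by norm_num) (by decide +kernel)

theorem k71 (F : FactsW NN 71) : False :=
  F.prime 0 71 0 (by norm_num) (by norm_num) (by norm_num) (by norm_num) (by decide +kernel)

theorem k72 (F : FactsW NN 72) : False :=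
  F.prime 0 71 1 (by norm_num) (by norm_num) (by norm_num) (by norm_num) (by decide +kernel)

theorem k73 (F : FactsW NN 73) : False :=
  F.prime 0 73 0 (by norm_num) (by norm_num) (by norm_num) (by norm_num) (by decide +kernel)

theorem k74 (F : FactsW NN 74) : False :=
  F.prime 0 73 1 (by norm_num) (by norm_num) (by norm_num) (by norm_num) (by decide +kernel)

theorem k75 (F : FactsW NN 75) : False :=
  F.prime 0 73 2 (by norm_num) (by norm_num) (by norm_num) (by norm_num) (by decide +kernel)

theorem k76 (F : FactsW NN 76) : False :=
  F.prime 0 73 3 (by norm_num) (by norm_num) (by norm_num) (by norm_num) (by decide +kernel)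

theorem killB {n : ℕ} (h1 : 29 ≤ n) (h2 : n ≤ 76) (F : FactsW NN n) : False := by
  interval_cases n
  · exact k29 F
  · exact k30 F
  · exact k31 F
  · exact k32 F
  · exact k33 F
  · exact k34 F
  · exact k35 F
  · exact k36 F
  · exact k37 F
  · exact k38 F
  · exact k39 F
  · exact k40 F
  · exact k41 F
  · exact k42 F
  · exact k43 F
  · exact k44 F
  · exact k45 F
  · exact k46 F
  · exact k47 F
  · exact k48 F
  · exact k49 F
  · exact k50 F
  · exact k51 F
  · exact k52 F
  · exact k53 F
  · exact k54 F
  · exact k55 F
  · exact k56 F
  · exact k57 F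
  · exact k58 F
  · exact k59 F
  · exact k60 F
  · exact k61 F
  · exact k62 F
  · exact k63 F
  · exact k64 F
  · exact k65 F
  · exact k66 F
  · exact k67 F
  · exact k68 F
  · exact k69 F
  · exact k70 F
  · exact k71 F
  · exact k72 F
  · exact k73 F
  · exact k74 F
  · exact k75 F
  · exact k76 F


end Cfsg.Agent.H208.DS
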