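import Cfsg.Agent.H208.DS.Kill

/-!
# The kernel checks for `77 ≤ n` (helper208, S4906)
-/

set_option autoImplicit false
set_option linter.unusedSectionVars false

namespace Cfsg.Agent.H208.DS

open Cfsg.Agent.H704

/-- the check at one `n` -/
def killL (K n : ℕ) : Bool :=
  cond (levChk (chkR NN 0) n K) true (cond (levChk (chkR NN 2) n K) true (cond (levChk (chkR NN 3) n K) true
    (cond (levChk (chkR NN 5) n K) true (levChk (chkR NN 7) n K))))

/-- check `f` on `[a, a + 2 ^ k)` -/
def allRange (f : ℕ → Bool) : ℕ → ℕ → Bool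
  | 0, a => f a
  | k + 1, a => cond (allRange f k a) (allRange f k (Nat.add a (Nat.pow 2 k))) false

theorem allRange_spec {f : ℕ → Bool} : ∀ {k a : ℕ}, allRange f k a = true → ∀ n, a ≤ n → n < a + 2 ^ k → f n = true := by
  intro k
  induction k with
  | zero =>
    intro a h n h1 h2
    have : n = a := by rw [pow_zero] at h2; omega
    rw [this]; exact h
  | succ k ih =>
    intro a h n h1 h2
    rw [allRange] at h
    cases h3 : allRange f k a with
    | false => rw [h3] at h; exact absurd h (by simp)
    | true =>
      rw [h3, cond_true] at h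
      rw [pow_succ] at h2
      by_cases h4 : n < a + 2 ^ k
      · exact ih h3 n h1 h4
      · exact ih h n (by show a + 2 ^ k ≤ n; omega) (by show n < a + 2 ^ k + 2 ^ k; omega)

theorem FactsW.lev {n K : ℕ} (F : FactsW NN n) (hn : 25 ≤ n) (hK : K ≤ 6) (h : killL K n = true)
    (hB : (2039062728 : ℤ) ≤ gz (K + 1) n) : False := by
  have key : ∀ r, r = 0 ∨ r = 2 ∨ r = 3 ∨ r = 5 ∨ r = 7 → levChk (chkR NN r) n K = true → False := by
    intro r hr h1
    refine F.kill r hr fun d hd => ?_
    rcases check_of_lev hn hK h1 hd with h2 | h2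
    · exact h2
    · apply chkR_of_large
      have h3 : 2039062728 ≤ d := by exact_mod_cast hB.trans h2
      have h4 := Nat.mul_le_mul h3 h3
      have h5 : NN ≤ 2039062728 * 2039062728 := by norm_num
      exact h5.trans h4
  unfold killL at h
  cases h0 : levChk (chkR NN 0) n K with
  | true => exact key 0 (by norm_num) h0
  | false =>
    rw [h0, cond_false] at h
    cases h2 : levChk (chkR NN 2) n K with
    | true => exact key 2 (by norm_num) h2
    | false =>
      rw [h2, cond_false] at h
      cases h3 : levChk (chkR NN 3) n K with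
      | true => exact key 3 (by norm_num) h3
      | false =>
        rw [h3, cond_false] at h
        cases h5 : levChk (chkR NN 5) n K with
        | true => exact key 5 (by norm_num) h5
        | false =>
          rw [h5, cond_false] at h
          exact key 7 (by norm_num) h

theorem gz_val {j n a b : ℕ} (h1 : n.descFactorial (j + 1) / (j + 1).factorial = a)
    (h2 : n.descFactorial j / j.factorial = b) : gz (j + 1) n = (a : ℤ) - b := by
  simp only [gz]
  rw [Nat.choose_eq_descFactorial_div_factorial, Nat.choose_eq_descFactorial_div_factorial, h1, h2]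

theorem gz_bd {j m n : ℕ} (hj : j + 1 ≤ 7) (hm : 25 ≤ m) (hmn : m ≤ n) {a b : ℕ}
    (h1 : m.descFactorial (j + 1) / (j + 1).factorial = a)
    (h2 : m.descFactorial j / j.factorial = b) (h : b + 2039062728 ≤ a) : (2039062728 : ℤ) ≤ gz (j + 1) n := by
  have h3 := gz_le hj hm hmn
  rw [gz_val h1 h2] at h3
  have h4 : ((b + 2039062728 : ℕ) : ℤ) ≤ a := by exact_mod_cast h
  push_cast at h4
  omega

theorem bd7 {n : ℕ} (h : 77 ≤ n) : (2039062728 : ℤ) ≤ gz (6 + 1) n :=
  gz_bd (m := 77) (by norm_num) (by norm_num) h (a := 2404808340) (b := 237093780) (by decide +kernel) (by decide +kernel) (by norm_num)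

theorem bd6 {n : ℕ} (h : 111 ≤ n) : (2039062728 : ℤ) ≤ gz (5 + 1) n :=
  gz_bd (m := 111) (by norm_num) (by norm_num) h (a := 2264243157) (b := 128164707) (by decide +kernel) (by decide +kernel) (by norm_num)

theorem bd5 {n : ℕ} (h : 193 ≤ n) : (2039062728 : ℤ) ≤ gz (4 + 1) n :=
  gz_bd (m := 193) (by norm_num) (by norm_num) h (a := 2118000528) (b := 56031760) (by decide +kernel) (by decide +kernel) (by norm_num)

theorem bd4 {n : ℕ} (h : 473 ≤ n) : (2039062728 : ℤ) ≤ gz (3 + 1) n :=
  gz_bd (m := 473) (by norm_num) (by norm_num) h (a := 2059257530) (b := 17525596) (by decide +kernel) (by decide +kernel) (by norm_num)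

theorem bd3 {n : ℕ} (h : 2329 ≤ n) : (2039062728 : ℤ) ≤ gz (2 + 1) n :=
  gz_bd (m := 2329) (by norm_num) (by norm_num) h (a := 2102798204) (b := 2710956) (by decide +kernel) (by decide +kernel) (by norm_num)

theorem bd2 {n : ℕ} (h : 63862 ≤ n) : (2039062728 : ℤ) ≤ gz (1 + 1) n :=
  gz_bd (m := 63862) (by norm_num) (by norm_num) h (a := 2039145591) (b := 63862) (by decide +kernel) (by decide +kernel) (by norm_num)

theorem k77 : allRange (killL 6) 5 77 = true := by decide +kernel
theorem k109 : allRange (killL 6) 2 109 = true := by decide +kernel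
theorem k113 : allRange (killL 5) 6 113 = true := by decide +kernel
theorem k177 : allRange (killL 5) 4 177 = true := by decide +kernel
theorem k193 : allRange (killL 4) 8 193 = true := by decide +kernel
theorem k449 : allRange (killL 4) 5 449 = true := by decide +kernel
theorem k481 : allRange (killL 3) 10 481 = true := by decide +kernel
theorem k1505 : allRange (killL 3) 9 1505 = true := by decide +kernel
theorem k2017 : allRange (killL 3) 8 2017 = true := by decide +kernel
theorem k2273 : allRange (killL 3) 6 2273 = true := by decide +kernel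

theorem killC {n : ℕ} (h1 : 77 ≤ n) (h2 : n < 2337) (F : FactsW NN n) : False := by
  by_cases a : n < 109
  · exact F.lev (by omega) (by norm_num) (allRange_spec k77 n h1 (by norm_num; omega)) (bd7 h1)
  by_cases b : n < 113
  · exact F.lev (by omega) (by norm_num) (allRange_spec k109 n (by omega) (by norm_num; omega)) (bd7 h1)
  by_cases c : n < 177
  · exact F.lev (by omega) (by norm_num) (allRange_spec k113 n (by omega) (by norm_num; omega)) (bd6 (by omega))
  by_cases d : n < 193
  · exact F.lev (by omega) (by norm_num) (allRange_spec k177 n (by omega) (by norm_num; omega)) (bd6 (by omega))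
  by_cases e : n < 449
  · exact F.lev (by omega) (by norm_num) (allRange_spec k193 n (by omega) (by norm_num; omega)) (bd5 (by omega))
  by_cases f : n < 481
  · exact F.lev (by omega) (by norm_num) (allRange_spec k449 n (by omega) (by norm_num; omega)) (bd5 (by omega))
  by_cases g : n < 1505
  · exact F.lev (by omega) (by norm_num) (allRange_spec k481 n (by omega) (by norm_num; omega)) (bd4 (by omega))
  by_cases h : n < 2017
  · exact F.lev (by omega) (by norm_num) (allRange_spec k1505 n (by omega) (by norm_num; omega)) (bd4 (by omega))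
  by_cases i : n < 2273
  · exact F.lev (by omega) (by norm_num) (allRange_spec k2017 n (by omega) (by norm_num; omega)) (bd4 (by omega))
  · exact F.lev (by omega) (by norm_num) (allRange_spec k2273 n (by omega) (by norm_num; omega)) (bd4 (by omega))

/-! ### At most two boxes outside the first row -/

theorem degL_zero (n : ℕ) : degL n 0 [] 1 = 1 := by
  unfold degL
  change n.descFactorial 0 / (1 * 1) = 1
  rw [Nat.descFactorial_zero]

theorem degL_one {n : ℕ} (hn : 4 ≤ n) : degL n 1 [1] 1 = n - 1 := by
  obtain ⟨m, rfl⟩ := Nat.exists_eq_add_of_le hn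
  unfold degL
  change (4 + m).descFactorial 2 / (([4 + m - 1 - 0 + colLen [1] 0].prod) * 1) = _
  have h1 : colLen [1] 0 = 1 := by decide
  rw [h1, List.prod_singleton, mul_one, Nat.descFactorial_succ, Nat.descFactorial_one]
  rw [show 4 + m - 1 - 0 + 1 = 4 + m by omega]
  exact Nat.mul_div_cancel _ (by omega)

theorem degL_two {n : ℕ} (hn : 4 ≤ n) : degL n 2 [2] 2 = n * (n - 3) / 2 := by
  obtain ⟨m, rfl⟩ := Nat.exists_eq_add_of_le hn
  unfold degL
  change (4 + m).descFactorial 4 / (([4 + m - 2 - 0 + colLen [2] 0, 4 + m - 2 - 1 + colLen [2] 1].prod) * 2) = _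
  have h1 : colLen [2] 0 = 1 := by decide
  have h2 : colLen [2] 1 = 1 := by decide
  rw [h1, h2, List.prod_cons, List.prod_singleton, Nat.descFactorial_succ, Nat.descFactorial_succ,
    Nat.descFactorial_succ, Nat.descFactorial_one]
  rw [show 4 + m - 2 - 0 + 1 = m + 3 by omega, show 4 + m - 2 - 1 + 1 = m + 2 by omega, show 4 + m - 3 = m + 1 by omega,
    show 4 + m - 2 = m + 2 by omega, show 4 + m - 1 = m + 3 by omega]
  rw [show (m + 1) * ((m + 2) * ((m + 3) * (4 + m))) = ((m + 3) * (m + 2)) * ((4 + m) * (m + 1)) by ring]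
  rw [Nat.mul_div_mul_left _ _ (by positivity)]

theorem degL_two' {n : ℕ} (hn : 4 ≤ n) : degL n 2 [1, 1] 2 = (n - 1) * (n - 2) / 2 := by
  obtain ⟨m, rfl⟩ := Nat.exists_eq_add_of_le hn
  unfold degL
  change (4 + m).descFactorial 3 / (([4 + m - 2 - 0 + colLen [1, 1] 0].prod) * 2) = _
  have h1 : colLen [1, 1] 0 = 2 := by decide
  rw [h1, List.prod_singleton, Nat.descFactorial_succ, Nat.descFactorial_succ, Nat.descFactorial_one]
  rw [show 4 + m - 2 - 0 + 2 = m + 4 by omega, 
    show 4 + m - 2 = m + 2 by omega, show 4 + m - 1 = m + 3 by omega]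
  rw [show (m + 2) * ((m + 3) * (4 + m)) = (m + 4) * ((m + 3) * (m + 2)) by ring]
  rw [Nat.mul_div_mul_left _ _ (by positivity)]

theorem levChk_two {chk : ℕ → Bool} {n : ℕ} (hn : 4 ≤ n) (h0 : chk 1 = true) (ha : chk (n - 1) = true)
    (hb : chk (n * (n - 3) / 2) = true) (hc : chk ((n - 1) * (n - 2) / 2) = true) : levChk chk n 2 = true := by
  have e : levChk chk n 2 = (chk (degL n 0 [] 1) && (chk (degL n 1 [1] 1) && ((chk (degL n 2 [1, 1] 2) && chk (degL n 2 [2] 2)) && true))) := by
    have r1 : rowHook 1 [] = 1 := by decide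
    have r2 : rowHook 2 [] = 2 := by decide
    have r3 : rowHook 1 [1] = 2 := by decide
    simp [levChk, go, List.range_succ, r1, r2, r3]
  rw [e, degL_zero, degL_one hn, degL_two hn, degL_two' hn, h0, ha, hb, hc]
  rfl

/-- the three degrees -/
def chk3 (r n : ℕ) : Bool :=
  cond (chkR NN r (Nat.sub n 1)) (cond (chkR NN r (Nat.div (Nat.mul n (Nat.sub n 3)) 2))
    (chkR NN r (Nat.div (Nat.mul (Nat.sub n 1) (Nat.sub n 2)) 2)) false) false

/-- the check at one `n` -/
def killT (n : ℕ) : Bool :=
  cond (chk3 0 n) true (cond (chk3 2 n) true (cond (chk3 3 n) true (cond (chk3 5 n) true (chk3 7 n))))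

theorem chk3_lev {r n : ℕ} (hr : r = 0 ∨ r = 2 ∨ r = 3 ∨ r = 5 ∨ r = 7) (hn : 4 ≤ n) (h : chk3 r n = true) :
    levChk (chkR NN r) n 2 = true := by
  unfold chk3 at h
  cases h1 : chkR NN r (Nat.sub n 1) with
  | false => rw [h1] at h; exact absurd h (by simp)
  | true =>
    rw [h1, cond_true] at h
    cases h2 : chkR NN r (Nat.div (Nat.mul n (Nat.sub n 3)) 2) with
    | false => rw [h2] at h; exact absurd h (by simp)
    | true =>
      rw [h2, cond_true] at h
      refine levChk_two hn ?_ h1 h2 h
      rcases hr with rfl | rfl | rfl | rfl | rfl <;> decide +kernel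

theorem killT_lev {n : ℕ} (hn : 4 ≤ n) (h : killT n = true) : killL 2 n = true := by
  unfold killT at h
  unfold killL
  cases h0 : chk3 0 n with
  | true => rw [chk3_lev (by norm_num) hn h0]; rfl
  | false =>
    rw [h0, cond_false] at h
    cases h2 : chk3 2 n with
    | true => rw [chk3_lev (by norm_num) hn h2]; cases levChk (chkR NN 0) n 2 <;> rfl
    | false =>
      rw [h2, cond_false] at h
      cases h3 : chk3 3 n with
      | true => rw [chk3_lev (by norm_num) hn h3]; cases levChk (chkR NN 0) n 2 <;> cases levChk (chkR NN 2) n 2 <;> rfl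
      | false =>
        rw [h3, cond_false] at h
        cases h5 : chk3 5 n with
        | true =>
          rw [chk3_lev (by norm_num) hn h5]
          cases levChk (chkR NN 0) n 2 <;> cases levChk (chkR NN 2) n 2 <;> cases levChk (chkR NN 3) n 2 <;> rfl
        | false =>
          rw [h5, cond_false] at h
          rw [chk3_lev (by norm_num) hn h]
          cases levChk (chkR NN 0) n 2 <;> cases levChk (chkR NN 2) n 2 <;> cases levChk (chkR NN 3) n 2 <;>
            cases levChk (chkR NN 5) n 2 <;> rfl

theorem t2329 : allRange killT 14 2329 = true := by decide +kernel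
theorem t18713 : allRange killT 14 18713 = true := by decide +kernel
theorem t35097 : allRange killT 14 35097 = true := by decide +kernel
theorem t51481 : allRange killT 14 51481 = true := by decide +kernel

theorem killD {n : ℕ} (h1 : 2329 ≤ n) (h2 : n < 67865) (F : FactsW NN n) : False := by
  have key : killT n = true := by
    by_cases a : n < 18713
    · exact allRange_spec t2329 n (by omega) (by norm_num; omega)
    by_cases b : n < 35097
    · exact allRange_spec t18713 n (by omega) (by norm_num; omega)
    by_cases c : n < 51481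
    · exact allRange_spec t35097 n (by omega) (by norm_num; omega)
    · exact allRange_spec t51481 n (by omega) (by norm_num; omega)
  exact F.lev (by omega) (by norm_num) (killT_lev (by omega) key) (bd3 h1)

/-- at most one box outside the first row -/
theorem killE {N n : ℕ} (hN : N ≤ NN) (h0 : 1 < N) (hn : 63862 ≤ n) (F : Facts N n) : False := by
  have hlev : levChk (fun d => Nat.beq d 1 || Nat.beq d (n - 1)) n 1 = true := by
    have r1 : rowHook 1 [] = 1 := by decide
    have e1 : levChk (fun d => Nat.beq d 1 || Nat.beq d (n - 1)) n 1 =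
        ((Nat.beq (degL n 0 [] 1) 1 || Nat.beq (degL n 0 [] 1) (n - 1)) &&
          (Nat.beq (degL n 1 [1] 1) 1 || Nat.beq (degL n 1 [1] 1) (n - 1))) := by
      simp [levChk, go, List.range_succ, r1]
    rw [e1, degL_zero, degL_one (by omega)]
    simp
  have key : ∀ e, Good N n e → e = n - 1 := by
    intro e he
    rcases check_of_lev (by omega) (by norm_num) hlev he.deg with h | h
    · simp only [Bool.or_eq_true, Nat.beq_eq] at h
      have := he.one_lt
      rcases h with h | h
      · omega
      · exact h
    · exfalso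
      have h2 := (bd2 hn).trans h
      have h3 : 2039062728 ≤ e := by exact_mod_cast h2
      have h4 := Nat.mul_le_mul h3 h3
      have h5 : NN ≤ 2039062728 * 2039062728 := by norm_num
      have := he.sq
      omega
  obtain ⟨e, he, -⟩ := F.exc
  have h1 := key e he
  have h2 : (n - 1).minFac.Prime := Nat.minFac_prime (by omega)
  obtain ⟨e', h3, h4⟩ := F.prime_to (n - 1).minFac h2 ((Nat.minFac_dvd _).trans (h1 ▸ he.dvd))
  rw [key e' h3] at h4
  exact h4 (Nat.minFac_dvd _)

end Cfsg.Agent.H208.DS
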