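import Cfsg.Agent.H704.LowDegree
import Cfsg.Agent.H704.EnumP
import Cfsg.Agent.H704.Hooks

/-!
# The degrees of the partitions with at least `j ≤ 7` boxes outside the first row and outside the first column
(helper208, S4906)

`lv_all` : for `25 ≤ n` such a degree is at least `C(n, j) - C(n, j - 1)`.
-/

set_option autoImplicit false
set_option linter.unusedSectionVars false

namespace Cfsg.Agent.H208.DS

open Finset
open Cfsg.Agent.H704

/-- `C(n, j) - C(n, j - 1)` -/
def gz : ℕ → ℕ → ℤ
  | 0, _ => 1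
  | j + 1, n => (n.choose (j + 1) : ℤ) - (n.choose j : ℤ)

theorem gz_succ (j n : ℕ) : gz (j + 1) (n + 1) = gz (j + 1) n + gz j n := by
  cases j with
  | zero =>
    simp only [gz, zero_add, Nat.choose_one_right, Nat.choose_zero_right]
    push_cast
    ring
  | succ j =>
    simp only [gz]
    rw [Nat.choose_succ_succ' n (j + 1), Nat.choose_succ_succ' n j]
    push_cast
    ring

/-- the convexity gap -/
def hz : ℕ → ℕ → ℤ
  | 0, x => gz 1 x - 2 * gz 0 x
  | j + 1, x => gz (j + 2) x - 2 * gz (j + 1) x - gz j x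

theorem hz_succ (j x : ℕ) : hz (j + 1) (x + 1) = hz (j + 1) x + hz j x := by
  cases j with
  | zero =>
    simp only [hz, zero_add]
    rw [gz_succ 1 x, show gz 1 (x + 1) = gz 1 x + gz 0 x from gz_succ 0 x]
    simp only [gz]
    ring
  | succ j =>
    simp only [hz]
    rw [gz_succ (j + 2) x, gz_succ (j + 1) x, gz_succ j x]
    ring

/-- values of the binomial coefficients -/
theorem choose25 : Nat.choose 25 0 = 1 ∧ Nat.choose 25 1 = 25 ∧ Nat.choose 25 2 = 300 ∧ Nat.choose 25 3 = 2300 ∧
    Nat.choose 25 4 = 12650 ∧ Nat.choose 25 5 = 53130 ∧ Nat.choose 25 6 = 177100 ∧ Nat.choose 25 7 = 480700 := by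
  simp only [Nat.choose_eq_descFactorial_div_factorial]
  decide +kernel

theorem hz_nonneg : ∀ x : ℕ, 25 ≤ x → ∀ j ≤ 6, 0 ≤ hz j x := by
  intro x hx
  induction x, hx using Nat.le_induction with
  | base =>
    obtain ⟨h0, h1, h2, h3, h4, h5, h6, h7⟩ := choose25
    intro j hj
    interval_cases j <;> simp only [hz, gz, zero_add, Nat.reduceAdd, h0, h1, h2, h3, h4, h5, h6, h7] <;> norm_num
  | succ x hx ih =>
    intro j hj
    cases j with
    | zero =>
      have h1 := ih 0 (by omega)
      simp only [hz] at h1 ⊢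
      rw [show gz 1 (x + 1) = gz 1 x + gz 0 x from gz_succ 0 x]
      simp only [gz] at h1 ⊢
      omega
    | succ j =>
      rw [hz_succ]
      have h1 := ih (j + 1) hj
      have h2 := ih j (by omega)
      omega

theorem gz_pos' {x : ℕ} (hx : 25 ≤ x) : ∀ j, (j ≤ 7 → 1 ≤ gz j x) ∧ (j + 1 ≤ 7 → 1 ≤ gz (j + 1) x) := by
  intro j
  induction j with
  | zero =>
    refine ⟨fun _ => le_rfl, fun _ => ?_⟩
    have h3 := hz_nonneg x hx 0 (by omega)
    simp only [hz] at h3
    have h4 : gz 0 x = 1 := rfl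
    rw [zero_add]
    omega
  | succ j ih =>
    refine ⟨ih.2, fun hj => ?_⟩
    have h3 := hz_nonneg x hx (j + 1) (by omega)
    simp only [hz] at h3
    have h4 := ih.1 (by omega)
    have h5 := ih.2 (by omega)
    rw [show j + 1 + 1 = j + 2 from rfl]
    omega

theorem gz_pos {x : ℕ} (hx : 25 ≤ x) {j : ℕ} (hj : j ≤ 7) : 1 ≤ gz j x := (gz_pos' hx j).1 hj

theorem gz_mono {x : ℕ} (hx : 25 ≤ x) {j : ℕ} (hj : j ≤ 6) : gz j x ≤ gz (j + 1) x := by
  have h1 := gz_pos hx (show j ≤ 7 by omega)
  have h3 := hz_nonneg x hx j hj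
  cases j with
  | zero =>
    simp only [hz] at h3
    rw [zero_add]
    omega
  | succ j =>
    simp only [hz] at h3
    have h2 := gz_pos hx (show j ≤ 7 by omega)
    rw [show j + 1 + 1 = j + 2 from rfl]
    omega

/-- two steps -/
theorem gz_two {x : ℕ} (hx : 25 ≤ x) {j : ℕ} (hj : j ≤ 6) : gz (j + 1) (x + 2) ≤ 2 * gz (j + 1) x := by
  have h3 := hz_nonneg x hx j hj
  have h1 : gz (j + 1) (x + 2) = gz (j + 1) (x + 1) + gz j (x + 1) := gz_succ j (x + 1)
  have h2 := gz_succ j x
  cases j with
  | zero =>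
    simp only [hz] at h3
    have h4 : gz 0 x = 1 := rfl
    have h5 : gz 0 (x + 1) = 1 := rfl
    rw [zero_add] at h1 h2 ⊢
    omega
  | succ j =>
    simp only [hz] at h3
    have h4 := gz_succ j x
    rw [show j + 1 + 1 = j + 2 from rfl] at h1 h2 ⊢
    omega

/-- the claim -/
def LV (n : ℕ) : Prop := ∀ j ≤ 7, ∀ (l : List ℕ) (d : ℕ), Dec l → l.sum = n → d * hookProd l = n.factorial →
  l.headD 0 + j ≤ n → colLen l 0 + j ≤ n → gz j n ≤ d

theorem colLen_zero_le_sum : ∀ l : List ℕ, colLen l 0 ≤ l.sum := by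
  intro l
  induction l with
  | nil => simp [colLen]
  | cons a l ih =>
    rw [colLen_cons, List.sum_cons]
    split_ifs with h <;> omega

theorem head_add_colLen {l : List ℕ} (h : 0 < l.headD 0) : l.headD 0 + colLen l 0 ≤ l.sum + 1 := by
  cases l with
  | nil => simp at h
  | cons a l =>
    rw [List.headD_cons] at h ⊢
    rw [colLen_cons, if_pos h, List.sum_cons]
    have := colLen_zero_le_sum l
    omega

theorem lv_head {n i : ℕ} (hn : 26 ≤ n) (hi : i ≤ 6) (ih : LV n) {l : List ℕ} {d : ℕ} (hl : Dec l)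
    (hs : l.sum = n + 1) (hd : d * hookProd l = (n + 1).factorial) (hh : l.headD 0 + (i + 1) = n + 1) :
    gz (i + 1) (n + 1) ≤ d := by
  obtain ⟨h1, h2, h3⟩ := sum_facts hl (by omega)
  have hcol := head_add_colLen h3
  have hc0 : l.getD (0 + 1) 0 < l.getD 0 0 := by
    rw [← headD_eq_getD, zero_add]; omega
  have hc1 := corner_last hl (by omega)
  have hlen0 : 0 < l.length := lt_length_of_getD hc0
  obtain ⟨d1, -, hd1⟩ := exists_deg (dec_rm hl hc0) (n := n) (by have := sum_rm hc0; omega)
  obtain ⟨d2, hp2, hd2⟩ := exists_deg (dec_rm hl hc1) (n := n) (by have := sum_rm hc1; omega)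
  have h4 := branch_two hl hs (i := 0) (k := colLen l 0 - 1) (by omega) hc0 hc1 hd hd1 hd2
  have h5 := ih (i + 1) (by omega) (rm l 0) d1 (dec_rm hl hc0) (by have := sum_rm hc0; omega) hd1
    (by rw [headD_rm_zero hlen0]; omega) (by have := colLen_rm_le hl hc0 0; omega)
  have h6 := ih i (by omega) (rm l (colLen l 0 - 1)) d2 (dec_rm hl hc1) (by have := sum_rm hc1; omega) hd2
    (by rw [headD_rm_pos (lt_length_of_getD hc1) (by omega)]; omega) (by have := colLen_rm_le hl hc1 0; omega)
  rw [gz_succ]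
  have h7 : ((d1 + d2 : ℕ) : ℤ) ≤ (d : ℤ) := by exact_mod_cast h4
  push_cast at h7
  omega

theorem lv_step {n : ℕ} (hn : 26 ≤ n) (ih1 : LV n) (ih2 : LV (n - 1)) : LV (n + 1) := by
  intro j hj l d hl hs hd hh hc
  rcases j with - | i
  · have := pos_of_deg hd
    have h0 : gz 0 (n + 1) = 1 := rfl
    omega
  have hi : i ≤ 6 := by omega
  by_cases hA : l.headD 0 + (i + 1) = n + 1
  · exact lv_head hn hi ih1 hl hs hd hA
  by_cases hB : colLen l 0 + (i + 1) = n + 1
  · have h0 : (transpose l).headD 0 = colLen l 0 := by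
      rw [headD_eq_getD, getD_transpose hl]
    exact lv_head hn hi ih1 (pairwise_transpose l) (by rw [sum_transpose hl, hs])
      (by rw [hookProd_transpose' hl, hd]) (by rw [h0]; exact hB)
  have hpos : 0 < l.headD 0 := by
    by_contra hne
    have h1 := sum_eq_sum_colLen hl
    rw [show l.headD 0 = 0 by omega, sum_range_zero] at h1
    omega
  have hcpos : 0 < colLen l 0 := by
    rw [← getD_pos_iff hl, ← headD_eq_getD]; exact hpos
  have hc1 := corner_last hl hcpos
  have hc2 := corner_first hl hpos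
  by_cases hne : colLen l (l.headD 0 - 1) - 1 = colLen l 0 - 1
  · -- a rectangle
    have h0 : 0 < colLen l (l.headD 0 - 1) := by
      rw [lt_colLen_iff hl, ← headD_eq_getD]; omega
    have hprod : l.headD 0 * colLen l 0 = n + 1 := by
      rw [← hs, sum_eq_sum_colLen hl]
      rw [← smul_eq_mul, ← card_range (l.headD 0), ← sum_const]
      rw [card_range]
      apply sum_congr rfl
      intro j hj
      rw [mem_range] at hj
      have h1 := colLen_anti l (Nat.zero_le j)
      have h2 := colLen_anti l (show j ≤ l.headD 0 - 1 by omega)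
      omega
    obtain ⟨a, ha⟩ : ∃ a, a = l.headD 0 := ⟨_, rfl⟩
    obtain ⟨k, hk⟩ : ∃ k, k = colLen l 0 := ⟨_, rfl⟩
    rw [← ha, ← hk] at hprod
    have ha2 : 2 ≤ a := by
      by_contra h
      have : a = 1 := by omega
      rw [this, one_mul] at hprod
      omega
    have hk2 : 2 ≤ k := by
      by_contra h
      have : k = 1 := by omega
      rw [this, mul_one] at hprod
      omega
    have ha3 : 2 * a ≤ n + 1 := by
      have : a * 2 ≤ a * k := Nat.mul_le_mul_left a hk2
      omega
    have hk3 : 2 * k ≤ n + 1 := by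
      have : 2 * k ≤ a * k := Nat.mul_le_mul_right k ha2
      omega
    rw [← hk] at hc1
    -- remove the corner
    obtain ⟨d1, -, hd1⟩ := exists_deg (dec_rm hl hc1) (n := n) (by have := sum_rm hc1; omega)
    have h4 := branch_one hl hs hc1 hd hd1
    have hl1 := dec_rm hl hc1
    have hs1 : (rm l (k - 1)).sum = (n - 1) + 1 := by have := sum_rm hc1; omega
    have hlen := lt_length_of_getD hc1
    have e1 : l.getD (k - 1) 0 = a := by
      have h5 := (lt_colLen_iff hl (k - 1) (a - 1)).1 (by rw [ha]; omega)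
      have h6 := getD_le_headD hl (k - 1)
      omega
    have e2 : l.getD (k - 2) 0 = a := by
      have h5 := (lt_colLen_iff hl (k - 2) (a - 1)).1 (by rw [ha]; omega)
      have h6 := getD_le_headD hl (k - 2)
      omega
    have e3 : l.getD k 0 = 0 := by
      have : ¬ 0 < l.getD k 0 := by rw [getD_pos_iff hl]; omega
      omega
    have hc3 : (rm l (k - 1)).getD ((k - 2) + 1) 0 < (rm l (k - 1)).getD (k - 2) 0 := by
      rw [getD_rm hlen, getD_rm hlen, if_pos (by omega), if_neg (by omega), e1, e2]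
      omega
    have hc4 : (rm l (k - 1)).getD ((k - 1) + 1) 0 < (rm l (k - 1)).getD (k - 1) 0 := by
      rw [getD_rm hlen, getD_rm hlen, if_neg (by omega), if_pos rfl, e1, show k - 1 + 1 = k by omega, e3]
      omega
    obtain ⟨d2, -, hd2⟩ := exists_deg (dec_rm hl1 hc3) (n := n - 1) (by have := sum_rm hc3; omega)
    obtain ⟨d3, -, hd3⟩ := exists_deg (dec_rm hl1 hc4) (n := n - 1) (by have := sum_rm hc4; omega)
    have h5 := branch_two hl1 hs1 (i := k - 2) (k := k - 1) (by omega) hc3 hc4
      (by rw [hd1, show n - 1 + 1 = n by omega]) hd2 hd3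
    have hhr : (rm l (k - 1)).headD 0 ≤ a := by rw [ha]; exact headD_rm_le hlen
    have hcr : colLen (rm l (k - 1)) 0 ≤ k := by rw [hk]; rw [← hk]; exact (colLen_rm_le hl hc1 0).trans hk.ge
    have m1 := headD_rm_le (lt_length_of_getD hc3)
    have m2 := colLen_rm_le hl1 hc3 0
    have m3 := headD_rm_le (lt_length_of_getD hc4)
    have m4 := colLen_rm_le hl1 hc4 0
    have h6 := ih2 (i + 1) (by omega) _ d2 (dec_rm hl1 hc3) (by have := sum_rm hc3; omega) hd2
      (by omega) (by omega)
    have h7 := ih2 (i + 1) (by omega) _ d3 (dec_rm hl1 hc4) (by have := sum_rm hc4; omega) hd3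
      (by omega) (by omega)
    have h8 := gz_two (x := n - 1) (by omega) hi
    rw [show n - 1 + 2 = n + 1 by omega] at h8
    have h9 : ((d2 + d3 : ℕ) : ℤ) ≤ (d : ℤ) := by exact_mod_cast h5.trans h4
    push_cast at h9
    omega
  · -- two corners
    obtain ⟨d1, -, hd1⟩ := exists_deg (dec_rm hl hc1) (n := n) (by have := sum_rm hc1; omega)
    obtain ⟨d2, -, hd2⟩ := exists_deg (dec_rm hl hc2) (n := n) (by have := sum_rm hc2; omega)
    have h4 := branch_two hl hs (Ne.symm hne) hc1 hc2 hd hd1 hd2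
    have m1 := headD_rm_le (lt_length_of_getD hc1)
    have m2 := colLen_rm_le hl hc1 0
    have m3 := headD_rm_le (lt_length_of_getD hc2)
    have m4 := colLen_rm_le hl hc2 0
    have h5 := ih1 (i + 1) (by omega) _ d1 (dec_rm hl hc1) (by have := sum_rm hc1; omega) hd1 (by omega) (by omega)
    have h6 := ih1 (i + 1) (by omega) _ d2 (dec_rm hl hc2) (by have := sum_rm hc2; omega) hd2 (by omega) (by omega)
    have h7 := gz_mono (x := n) (by omega) hi
    have h8 := gz_succ i n
    have h9 : ((d1 + d2 : ℕ) : ℤ) ≤ (d : ℤ) := by exact_mod_cast h4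
    push_cast at h9
    omega

/-! ### The base -/

/-- the table for `n = 25` -/
def tab25 (j : ℕ) : ℕ := ([1, 24, 275, 2000, 10350, 40480, 123970] : List ℕ).getD j 303600

/-- the table for `n = 26` -/
def tab26 (j : ℕ) : ℕ := ([1, 25, 299, 2275, 12350, 50830, 164450] : List ℕ).getD j 427570

/-- the check of a partition -/
def lchk (n : ℕ) (tab : ℕ → ℕ) (l : List ℕ) (H : ℕ) : Bool :=
  Nat.ble (Nat.mul (tab (Nat.sub n (cond (Nat.ble (l.headD 0) l.length) l.length (l.headD 0)))) H) n.factorial

theorem chk25 : go (lchk 25 tab25) 26 25 1 [] 1 = true := by decide +kernel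

theorem chk26 : go (lchk 26 tab26) 27 26 1 [] 1 = true := by decide +kernel

theorem choose26 : Nat.choose 26 0 = 1 ∧ Nat.choose 26 1 = 26 ∧ Nat.choose 26 2 = 325 ∧ Nat.choose 26 3 = 2600 ∧
    Nat.choose 26 4 = 14950 ∧ Nat.choose 26 5 = 65780 ∧ Nat.choose 26 6 = 230230 ∧ Nat.choose 26 7 = 657800 := by
  simp only [Nat.choose_eq_descFactorial_div_factorial]
  decide +kernel

theorem gz25 : ∀ j ≤ 7, gz j 25 = tab25 j := by
  obtain ⟨h0, h1, h2, h3, h4, h5, h6, h7⟩ := choose25
  intro j hj
  interval_cases j <;> simp only [gz, zero_add, Nat.reduceAdd, h0, h1, h2, h3, h4, h5, h6, h7, tab25] <;> norm_num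

theorem gz26 : ∀ j ≤ 7, gz j 26 = tab26 j := by
  obtain ⟨h0, h1, h2, h3, h4, h5, h6, h7⟩ := choose26
  intro j hj
  interval_cases j <;> simp only [gz, zero_add, Nat.reduceAdd, h0, h1, h2, h3, h4, h5, h6, h7, tab26] <;> norm_num

theorem lv_base {n : ℕ} {tab : ℕ → ℕ} (h : go (lchk n tab) (n + 1) n 1 [] 1 = true)
    (htab : ∀ j ≤ 7, gz j n = tab j) (hmono : ∀ j ≤ 7, ∀ j' ≤ n, j ≤ j' → tab j ≤ tab j') : LV n := by
  intro j hj l d hl hs hd hh hc
  have h1 := check_of_isPart h (isPart_filter hl hs)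
  unfold lchk at h1
  rw [hookProd_filter hl, headD_filter_pos hl, length_filter_pos] at h1
  have h2 := Nat.le_of_ble_eq_true h1
  change tab (n - _) * hookProd l ≤ n.factorial at h2
  rw [← hd] at h2
  have h3 := Nat.le_of_mul_le_mul_right h2 (hookProd_pos hl)
  have h4 : j ≤ n - cond (Nat.ble (l.headD 0) (colLen l 0)) (colLen l 0) (l.headD 0) := by
    cases Nat.ble (l.headD 0) (colLen l 0) <;> simp only [cond_true, cond_false] <;> omega
  have h5 := hmono j hj _ (Nat.sub_le _ _) h4
  rw [htab j hj]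
  exact_mod_cast h5.trans h3

theorem lv25 : LV 25 := lv_base chk25 gz25 (by decide)

theorem lv26 : LV 26 := lv_base chk26 gz26 (by decide)

theorem lv_all {n : ℕ} (hn : 25 ≤ n) : LV n := by
  have h : LV n ∧ LV (n + 1) := by
    induction n, hn using Nat.le_induction with
    | base => exact ⟨lv25, lv26⟩
    | succ n hn ih => exact ⟨ih.2, lv_step (n := n + 1) (by omega) ih.2 ih.1⟩
  exact h.1

/-- monotone in `n` -/
theorem gz_le {j : ℕ} (hj : j ≤ 7) {m n : ℕ} (hm : 25 ≤ m) (hmn : m ≤ n) : gz j m ≤ gz j n := by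
  induction n, hmn using Nat.le_induction with
  | base => exact le_rfl
  | succ n hn ih =>
    rcases j with - | j
    · exact le_rfl
    · rw [gz_succ]
      have := gz_pos (x := n) (by omega) (show j ≤ 7 by omega)
      omega

/-! ### The partitions with a long first row -/

/-- the degree of the partition `(n - m, t)` of `n`, `t` a partition of `m` with hook product `H` -/
def degL (n m : ℕ) (t : List ℕ) (H : ℕ) : ℕ :=
  Nat.div (n.descFactorial (m + t.headD 0)) (Nat.mul ((List.range (t.headD 0)).map fun j => n - m - j + colLen t j).prod H)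

theorem degL_eq {n m d : ℕ} {a : ℕ} {t : List ℕ} (hl : IsPart (a :: t) n) (hd : d * hookProd (a :: t) = n.factorial)
    (hm : t.sum = m) : degL n m t (hookProd t) = d := by
  have ht : IsPart t m := ⟨hl.sorted.of_cons, fun x hx => hl.pos x (List.mem_cons_of_mem _ hx), hm⟩
  obtain ⟨f, hf0, hf⟩ := exists_deg ht.sorted ht.sum
  have h1 := deg_mul_desc hl hd (f := f) (by rw [hm, hf])
  have ha : a = n - m := by
    have := hl.sum
    rw [List.sum_cons, hm] at this
    omega
  rw [hm] at h1
  have h2 : (∏ j ∈ range (t.headD 0), (a - j + colLen t j)) =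
      ((List.range (t.headD 0)).map fun j => n - m - j + colLen t j).prod := by
    rw [← ha]; rfl
  rw [h2] at h1
  unfold degL
  change n.descFactorial (m + t.headD 0) / (_ * hookProd t) = d
  have h3 : f * (d * (((List.range (t.headD 0)).map fun j => n - m - j + colLen t j).prod * hookProd t)) =
      f * n.descFactorial (m + t.headD 0) := by
    rw [← h1, ← hf]; ring
  have h4 := Nat.eq_of_mul_eq_mul_left hf0 h3
  rw [← h4]
  apply Nat.mul_div_cancel
  apply Nat.mul_pos _ (hookProd_pos ht.sorted)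
  apply Nat.pos_of_ne_zero
  intro h0
  rw [h0, zero_mul, mul_zero] at h4
  have h5 := Nat.descFactorial_eq_zero_iff_lt.1 h4.symm
  -- `m + headD t ≤ n`
  have h6 : t.headD 0 ≤ a := by
    cases t with
    | nil => simp
    | cons b t => exact List.rel_of_pairwise_cons hl.sorted (by simp)
  have := hl.sum
  rw [List.sum_cons, hm] at this
  omega

/-- the check for the partitions with at most `K` boxes outside the first row -/
def levChk (chk : ℕ → Bool) (n K : ℕ) : Bool :=
  (List.range (K + 1)).all fun m => go (fun t H => chk (degL n m t H)) (m + 1) m 1 [] 1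

theorem levChk_head {chk : ℕ → Bool} {n K : ℕ} (h : levChk chk n K = true) {l : List ℕ} {d : ℕ} (hn : 0 < n)
    (hl : IsPart l n) (hd : d * hookProd l = n.factorial) (hh : n ≤ l.headD 0 + K) : chk d = true := by
  cases l with
  | nil =>
    have := hl.sum
    rw [List.sum_nil] at this
    omega
  | cons a t =>
    rw [List.headD_cons] at hh
    have hs := hl.sum
    rw [List.sum_cons] at hs
    rw [levChk, List.all_eq_true] at h
    have h1 := h t.sum (by rw [List.mem_range]; omega)
    have h2 := check_of_isPart h1 (l := t) ⟨hl.sorted.of_cons, fun x hx => hl.pos x (List.mem_cons_of_mem _ hx), rfl⟩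
    rwa [degL_eq hl hd rfl] at h2

/-- **the check at one `n ≥ 25`** -/
theorem check_of_lev {chk : ℕ → Bool} {n K : ℕ} (hn : 25 ≤ n) (hK : K ≤ 6) (h : levChk chk n K = true) {d : ℕ}
    (hd : IsDeg n d) : chk d = true ∨ gz (K + 1) n ≤ d := by
  obtain ⟨l, hl, he⟩ := hd
  by_cases h1 : n ≤ l.headD 0 + K
  · exact Or.inl (levChk_head h (by omega) hl he h1)
  by_cases h2 : n ≤ colLen l 0 + K
  · left
    have h3 : (transpose l).headD 0 = colLen l 0 := by rw [headD_eq_getD, getD_transpose hl.sorted]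
    exact levChk_head h (by omega) (isPart_transpose hl) (by rw [hookProd_transpose hl, he]) (by rw [h3]; exact h2)
  · exact Or.inr (lv_all hn (K + 1) (by omega) l d hl.sorted hl.sum he (by omega) (by omega))

end Cfsg.Agent.H208.DS
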