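import Cfsg.Agent.H208.DS.KillA
import Cfsg.Agent.H208.DS.KillB
import Cfsg.Agent.H208.DS.KillC
import Cfsg.Agent.H704.DS.Base

/-!
# The rows `M23`, `M24`, `Co3`, `Co2`, `Co1` of S4906 (helper208)

The degrees of these groups are not all degrees of a symmetric group `S_n`.
-/

set_option autoImplicit false
set_option linter.unusedSectionVars false

universe u

namespace Cfsg.Agent.H208.DS

open Cfsg Cfsg.Agent.H704

theorem Facts.full {N n : ℕ} (F : Facts N n) (r : ℕ) (hr : r = 0 ∨ r.Prime ∧ r ∣ N)
    (h : go (fun _ H => chkR N r (Nat.div n.factorial H)) (n + 1) n 1 [] 1 = true) : False := by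
  have h' : ∀ d, IsDeg n d → chkR N r d = true := fun _ hd => check_of_isDeg h hd
  rcases Nat.eq_zero_or_pos r with h0 | h0
  · subst h0
    obtain ⟨e, h1, h2⟩ := F.exc
    have h3 := h' e h1.deg
    change chkC N e = true at h3
    rw [chkC_false h1 h2] at h3
    exact Bool.false_ne_true h3
  · obtain ⟨hp, hpN⟩ := hr.resolve_left h0.ne'
    obtain ⟨e, h1, h2⟩ := F.prime_to r hp hpN
    have h3 := h' e h1.deg
    have h4 : chkR N r e = chkA N r e := by
      unfold chkR
      have : Nat.beq r 0 = false := by
        rw [Bool.eq_false_iff]
        intro h5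
        have := Nat.eq_of_beq_eq_true h5
        omega
      rw [this]; rfl
    rw [h4, chkA_false h1 h2] at h3
    exact Bool.false_ne_true h3

/-- the degree is small or no divisor -/
def chkB (N d : ℕ) : Bool := cond (Nat.beq (Nat.mod N d) 0) (Nat.blt (14 * (d * d)) N) true

theorem Facts.fullB {N n : ℕ} (F : Facts N n) (hn : n < 23)
    (h : go (fun _ H => chkB N (Nat.div n.factorial H)) (n + 1) n 1 [] 1 = true) : False := by
  have h' : ∀ d, IsDeg n d → chkB N d = true := fun _ hd => check_of_isDeg h hd
  obtain ⟨e, h1, h2⟩ := F.dvd23 (by
    intro e he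
    have h3 := h' e he.deg
    unfold chkB at h3
    rw [show Nat.mod N e = 0 from Nat.mod_eq_zero_of_dvd he.dvd] at h3
    simpa [Nat.blt_eq] using h3)
  obtain ⟨l, hl, hd⟩ := h1.deg
  have h3 : 23 ∣ n.factorial := by
    rw [← hd]
    exact Dvd.dvd.mul_right (Nat.dvd_of_mod_eq_zero h2) _
  have h4 := ((by norm_num : Nat.Prime 23).dvd_factorial).1 h3
  omega

theorem main {N n : ℕ} (F : Facts N n) (hn : 16 ≤ n) (hN : N ∣ NN) (h0 : 1 < N) (h : 210 ∣ N) : False := by
  have hle : N ≤ NN := Nat.le_of_dvd (by norm_num) hN
  have W : FactsW NN n := F.toW hN (by norm_num) h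
  by_cases a : n ≤ 28
  · exact killA hn a W
  by_cases b : n ≤ 76
  · exact killB (by omega) b W
  by_cases c : n < 2337
  · exact killC (by omega) c W
  by_cases d : n < 67865
  · exact killD (by omega) d W
  · exact killE hle h0 (by omega) F

/-! ### m23 -/

theorem m23_5 (F : Facts 10200960 5) : False := F.full 0 (by norm_num) (by decide +kernel)

theorem m23_6 (F : Facts 10200960 6) : False := F.full 0 (by norm_num) (by decide +kernel)

theorem m23_7 (F : Facts 10200960 7) : False := F.full 5 (by norm_num) (by decide +kernel)

theorem m23_8 (F : Facts 10200960 8) : False := F.full 5 (by norm_num) (by decide +kernel)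

theorem m23_9 (F : Facts 10200960 9) : False := F.full 0 (by norm_num) (by decide +kernel)

theorem m23_10 (F : Facts 10200960 10) : False := F.fullB (by norm_num) (by decide +kernel)

theorem m23_11 (F : Facts 10200960 11) : False := F.full 0 (by norm_num) (by decide +kernel)

theorem m23_12 (F : Facts 10200960 12) : False := F.full 11 (by norm_num) (by decide +kernel)

theorem m23_13 (F : Facts 10200960 13) : False := F.full 3 (by norm_num) (by decide +kernel)

theorem m23_14 (F : Facts 10200960 14) : False := F.full 0 (by norm_num) (by decide +kernel)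

theorem m23_15 (F : Facts 10200960 15) : False := F.full 0 (by norm_num) (by decide +kernel)

theorem m23_all {n : ℕ} (hn : 5 ≤ n) (F : Facts 10200960 n) : False := by
  by_cases h : 16 ≤ n
  · exact main F h (by norm_num) (by norm_num) (by norm_num)
  · rw [not_le] at h
    interval_cases n
    · exact m23_5 F
    · exact m23_6 F
    · exact m23_7 F
    · exact m23_8 F
    · exact m23_9 F
    · exact m23_10 F
    · exact m23_11 F
    · exact m23_12 F
    · exact m23_13 F
    · exact m23_14 F
    · exact m23_15 F

/-! ### m24 -/

theorem m24_5 (F : Facts 244823040 5) : False := F.full 0 (by norm_num) (by decide +kernel)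

theorem m24_6 (F : Facts 244823040 6) : False := F.full 0 (by norm_num) (by decide +kernel)

theorem m24_7 (F : Facts 244823040 7) : False := F.full 5 (by norm_num) (by decide +kernel)

theorem m24_8 (F : Facts 244823040 8) : False := F.full 5 (by norm_num) (by decide +kernel)

theorem m24_9 (F : Facts 244823040 9) : False := F.full 0 (by norm_num) (by decide +kernel)

theorem m24_10 (F : Facts 244823040 10) : False := F.fullB (by norm_num) (by decide +kernel)

theorem m24_11 (F : Facts 244823040 11) : False := F.full 0 (by norm_num) (by decide +kernel)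

theorem m24_12 (F : Facts 244823040 12) : False := F.full 11 (by norm_num) (by decide +kernel)

theorem m24_13 (F : Facts 244823040 13) : False := F.full 3 (by norm_num) (by decide +kernel)

theorem m24_14 (F : Facts 244823040 14) : False := F.full 0 (by norm_num) (by decide +kernel)

theorem m24_15 (F : Facts 244823040 15) : False := F.full 0 (by norm_num) (by decide +kernel)

theorem m24_all {n : ℕ} (hn : 5 ≤ n) (F : Facts 244823040 n) : False := by
  by_cases h : 16 ≤ n
  · exact main F h (by norm_num) (by norm_num) (by norm_num)
  · rw [not_le] at h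
    interval_cases n
    · exact m24_5 F
    · exact m24_6 F
    · exact m24_7 F
    · exact m24_8 F
    · exact m24_9 F
    · exact m24_10 F
    · exact m24_11 F
    · exact m24_12 F
    · exact m24_13 F
    · exact m24_14 F
    · exact m24_15 F

/-! ### co3 -/

theorem co3_5 (F : Facts 495766656000 5) : False := F.full 0 (by norm_num) (by decide +kernel)

theorem co3_6 (F : Facts 495766656000 6) : False := F.full 0 (by norm_num) (by decide +kernel)

theorem co3_7 (F : Facts 495766656000 7) : False := F.full 5 (by norm_num) (by decide +kernel)

theorem co3_8 (F : Facts 495766656000 8) : False := F.full 5 (by norm_num) (by decide +kernel)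

theorem co3_9 (F : Facts 495766656000 9) : False := F.full 0 (by norm_num) (by decide +kernel)

theorem co3_10 (F : Facts 495766656000 10) : False := F.fullB (by norm_num) (by decide +kernel)

theorem co3_11 (F : Facts 495766656000 11) : False := F.full 0 (by norm_num) (by decide +kernel)

theorem co3_12 (F : Facts 495766656000 12) : False := F.full 11 (by norm_num) (by decide +kernel)

theorem co3_13 (F : Facts 495766656000 13) : False := F.full 3 (by norm_num) (by decide +kernel)

theorem co3_14 (F : Facts 495766656000 14) : False := F.full 0 (by norm_num) (by decide +kernel)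

theorem co3_15 (F : Facts 495766656000 15) : False := F.full 0 (by norm_num) (by decide +kernel)

theorem co3_all {n : ℕ} (hn : 5 ≤ n) (F : Facts 495766656000 n) : False := by
  by_cases h : 16 ≤ n
  · exact main F h (by norm_num) (by norm_num) (by norm_num)
  · rw [not_le] at h
    interval_cases n
    · exact co3_5 F
    · exact co3_6 F
    · exact co3_7 F
    · exact co3_8 F
    · exact co3_9 F
    · exact co3_10 F
    · exact co3_11 F
    · exact co3_12 F
    · exact co3_13 F
    · exact co3_14 F
    · exact co3_15 F

/-! ### co2 -/

theorem co2_5 (F : Facts 42305421312000 5) : False := F.full 0 (by norm_num) (by decide +kernel)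

theorem co2_6 (F : Facts 42305421312000 6) : False := F.full 0 (by norm_num) (by decide +kernel)

theorem co2_7 (F : Facts 42305421312000 7) : False := F.full 5 (by norm_num) (by decide +kernel)

theorem co2_8 (F : Facts 42305421312000 8) : False := F.full 5 (by norm_num) (by decide +kernel)

theorem co2_9 (F : Facts 42305421312000 9) : False := F.full 0 (by norm_num) (by decide +kernel)

theorem co2_10 (F : Facts 42305421312000 10) : False := F.fullB (by norm_num) (by decide +kernel)

theorem co2_11 (F : Facts 42305421312000 11) : False := F.full 0 (by norm_num) (by decide +kernel)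

theorem co2_12 (F : Facts 42305421312000 12) : False := F.full 11 (by norm_num) (by decide +kernel)

theorem co2_13 (F : Facts 42305421312000 13) : False := F.full 3 (by norm_num) (by decide +kernel)

theorem co2_14 (F : Facts 42305421312000 14) : False := F.full 0 (by norm_num) (by decide +kernel)

theorem co2_15 (F : Facts 42305421312000 15) : False := F.full 0 (by norm_num) (by decide +kernel)

theorem co2_all {n : ℕ} (hn : 5 ≤ n) (F : Facts 42305421312000 n) : False := by
  by_cases h : 16 ≤ n
  · exact main F h (by norm_num) (by norm_num) (by norm_num)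
  · rw [not_le] at h
    interval_cases n
    · exact co2_5 F
    · exact co2_6 F
    · exact co2_7 F
    · exact co2_8 F
    · exact co2_9 F
    · exact co2_10 F
    · exact co2_11 F
    · exact co2_12 F
    · exact co2_13 F
    · exact co2_14 F
    · exact co2_15 F

/-! ### co1 -/

theorem co1_5 (F : Facts 4157776806543360000 5) : False := F.full 0 (by norm_num) (by decide +kernel)

theorem co1_6 (F : Facts 4157776806543360000 6) : False := F.full 0 (by norm_num) (by decide +kernel)

theorem co1_7 (F : Facts 4157776806543360000 7) : False := F.full 5 (by norm_num) (by decide +kernel)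

theorem co1_8 (F : Facts 4157776806543360000 8) : False := F.full 5 (by norm_num) (by decide +kernel)

theorem co1_9 (F : Facts 4157776806543360000 9) : False := F.full 0 (by norm_num) (by decide +kernel)

theorem co1_10 (F : Facts 4157776806543360000 10) : False := F.fullB (by norm_num) (by decide +kernel)

theorem co1_11 (F : Facts 4157776806543360000 11) : False := F.full 0 (by norm_num) (by decide +kernel)

theorem co1_12 (F : Facts 4157776806543360000 12) : False := F.full 11 (by norm_num) (by decide +kernel)

theorem co1_13 (F : Facts 4157776806543360000 13) : False := F.fullB (by norm_num) (by decide +kernel)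

theorem co1_14 (F : Facts 4157776806543360000 14) : False := F.fullB (by norm_num) (by decide +kernel)

theorem co1_15 (F : Facts 4157776806543360000 15) : False := F.fullB (by norm_num) (by decide +kernel)

theorem co1_all {n : ℕ} (hn : 5 ≤ n) (F : Facts 4157776806543360000 n) : False := by
  by_cases h : 16 ≤ n
  · exact main F h (by norm_num) (by norm_num) (by norm_num)
  · rw [not_le] at h
    interval_cases n
    · exact co1_5 F
    · exact co1_6 F
    · exact co1_7 F
    · exact co1_8 F
    · exact co1_9 F
    · exact co1_10 F
    · exact co1_11 F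
    · exact co1_12 F
    · exact co1_13 F
    · exact co1_14 F
    · exact co1_15 F

/-- **`M23`** -/
theorem row_m23 {K : Type u} [Group K] [Finite K] (h : Spor.IsoM23 K) {n : ℕ} (hn : 5 ≤ n)
    (hd : H704.DS.SubDeg n K) : False :=
  m23_all hn (facts_m23 h hd)

/-- **`M24`** -/
theorem row_m24 {K : Type u} [Group K] [Finite K] (h : Spor.IsoM24 K) {n : ℕ} (hn : 5 ≤ n)
    (hd : H704.DS.SubDeg n K) : False :=
  m24_all hn (facts_m24 h hd)

/-- **`Co3`** -/
theorem row_co3 {K : Type u} [Group K] [Finite K] (h : Spor.IsoCo3 K) {n : ℕ} (hn : 5 ≤ n)
    (hd : H704.DS.SubDeg n K) : False :=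
  co3_all hn (facts_co3 h hd)

/-- **`Co2`** -/
theorem row_co2 {K : Type u} [Group K] [Finite K] (h : Spor.IsoCo2 K) {n : ℕ} (hn : 5 ≤ n)
    (hd : H704.DS.SubDeg n K) : False :=
  co2_all hn (facts_co2 h hd)

/-- **`Co1`** -/
theorem row_co1 {K : Type u} [Group K] [Finite K] (h : Spor.IsoCo1 K) {n : ℕ} (hn : 5 ≤ n)
    (hd : H704.DS.SubDeg n K) : False :=
  co1_all hn (facts_co1 h hd)

end Cfsg.Agent.H208.DS
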